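import Cfsg.Agent.ValueSys.Final
import Cfsg.Agent.FGSA.Nilpotent

/-!
The order condition of Baumslag and Wiegold for a term of the lower central series.
-/

set_option autoImplicit false
set_option linter.style.haveILetI false
set_option linter.unusedSectionVars false

open Subgroup
open scoped commutatorElement

namespace CfsgLib.ValueSys

universe u

variable {G : Type u} [Group G]

theorem map_sylow_eq [Finite G] {N : Subgroup G} [N.Normal] {p : ℕ} [Fact p.Prime]
    {T : Subgroup (G ⧸ N)} (hT : IsPGroup p T) (S : Sylow p (T.comap (QuotientGroup.mk' N))) :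
    ((S : Subgroup (T.comap (QuotientGroup.mk' N))).map (Subgroup.subtype _)).map
      (QuotientGroup.mk' N) = T := by
  refine le_antisymm (map_le_iff_le_comap.2 (map_subtype_le _)) fun t ht => ?_
  let φ : T.comap (QuotientGroup.mk' N) →* T := (QuotientGroup.mk' N).subgroupComap T
  have hφ : Function.Surjective φ := (QuotientGroup.mk' N).subgroupComap_surjective_of_surjective T
    (QuotientGroup.mk'_surjective N)
  have htop : ((S.mapSurjective hφ : Sylow p T) : Subgroup T) = ⊤ :=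
    ((S.mapSurjective hφ).3 (hT.of_equiv Subgroup.topEquiv.symm) le_top).symm
  have hmem : (⟨t, ht⟩ : T) ∈ ((S.mapSurjective hφ : Sylow p T) : Subgroup T) :=
    htop ▸ mem_top _
  rw [Sylow.coe_mapSurjective] at hmem
  obtain ⟨x, hx, hxe⟩ := hmem
  exact ⟨x, ⟨x, hx, rfl⟩, congrArg Subtype.val hxe⟩

theorem VSys.solvable_aux {k : ℕ} : ∀ (n : ℕ) {G : Type u} [Group G] [Finite G] (V : Set G),
    Nat.card G = n → VSys k V → Group.IsSolvable G := by
  intro n
  induction n using Nat.strong_induction_on with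
  | _ n ih =>
  intro G _ _ V hn hV
  have hsub : ∀ S : Subgroup G, S ≠ ⊤ → Group.IsSolvable S := fun S hS =>
    ih _ (hn ▸ lt_of_le_of_ne (Subgroup.card_le_card_group S) fun h =>
      hS (eq_top_of_card_eq S h)) _ rfl (hV.restrict S)
  by_contra hns
  have hnt : (⊥ : Subgroup G) ≠ ⊤ := fun h => hns (isSolvable_of_comm fun a b => by
    rw [mem_bot.1 (h.symm ▸ mem_top a : a ∈ (⊥ : Subgroup G)), one_mul, mul_one])
  obtain ⟨N, ⟨hNn, hNt⟩, hmax⟩ := Set.Finite.exists_maximal
    (Set.toFinite {N : Subgroup G | N.Normal ∧ N ≠ ⊤}) ⟨⊥, inferInstance, hnt⟩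
  haveI := hNn
  haveI := hsub N hNt
  set π := QuotientGroup.mk' N
  have hπ := QuotientGroup.mk'_surjective N
  haveI hnt' : Nontrivial (G ⧸ N) := QuotientGroup.nontrivial_iff.2 hNt
  have hsimple : IsSimpleGroup (G ⧸ N) := ⟨fun M hM => by
    by_cases hMt : M.comap π = ⊤
    · exact Or.inr (comap_injective hπ (hMt.trans (comap_top π).symm))
    · refine Or.inl (comap_injective hπ ?_)
      have hle : N ≤ M.comap π := fun x hx => mem_comap.2 (by
        rw [QuotientGroup.mk'_apply, (QuotientGroup.eq_one_iff x).2 hx]; exact one_mem M)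
      rw [MonoidHom.comap_bot, QuotientGroup.ker_mk']
      exact le_antisymm (hmax ⟨hM.comap π, hMt⟩ hle) hle⟩
  let good : ℕ → G ⧸ N → Prop := fun p x => ∃ v ∈ V, PEl p v ∧ π v = x
  refine (Good.false (good := good) ⟨hsimple, fun h => hns ?_, ?_, ?_, ?_, ?_, ?_⟩ :)
  · exact Group.isSolvable_of_ker_le_range N.subtype π (by simp [π])
  · rintro p x ⟨v, -, hp, rfl⟩
    exact hp.map π
  · rintro p x g ⟨v, hv, hp, rfl⟩
    obtain ⟨g, rfl⟩ := hπ g
    exact ⟨g * v * g⁻¹, hV.conj v hv g, hp.conj g, by simp [π]⟩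
  · rintro M hM p hp x hx ⟨v, hv, hvp, rfl⟩
    haveI := Fact.mk hp
    haveI := hsub (M.comap π) fun h => hM (comap_injective hπ (h.trans (comap_top π).symm))
    have h1 := (hV.restrict (M.comap π)).mem_pCore (p := p) (v := ⟨v, hx⟩) hv
      (hvp.of_injective (Subgroup.subtype_injective _))
    let φ : M.comap π →* M := π.subgroupComap M
    have hφ : Function.Surjective φ := π.subgroupComap_surjective_of_surjective M hπ
    have h2 : (Cfsg.pCore p (M.comap π)).map φ ≤ Cfsg.pCore p M :=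
      CfsgLib.Solvable.le_pCore p ((CfsgLib.Solvable.pCore_spec p).1.map φ hφ)
        ((CfsgLib.Solvable.isPGroup_pCore p).map φ)
    exact ⟨φ ⟨v, hx⟩, h2 ⟨_, h1, rfl⟩, rfl⟩
  · rintro p hp P hP x hx a ha ⟨v, hv, hvp, rfl⟩
    haveI := Fact.mk hp
    obtain ⟨S, hS⟩ := (hvp.of_injective (x := (⟨v, hx⟩ : P.comap π))
      (Subgroup.subtype_injective _)).isPGroup.exists_le_sylow
    set Q := (S : Subgroup (P.comap π)).map (Subgroup.subtype _)
    have hvQ : v ∈ Q := ⟨⟨v, hx⟩, hS (mem_zpowers _), rfl⟩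
    have hQp : IsPGroup p Q := S.2.map _
    obtain ⟨b, hb, rfl⟩ := (map_sylow_eq hP S).ge ha
    refine ⟨⁅v, b⁆, hV.comm v hv b, pEl_of_mem hQp ?_, map_commutatorElement π v b⟩
    rw [commutatorElement_def]
    exact mul_mem (mul_mem (mul_mem hvQ hb) (inv_mem hvQ)) (inv_mem hb)
  · intro p r hp hr hrp T hT w hw hwr a ha hne
    haveI := Fact.mk hp
    haveI := Fact.mk hr
    obtain ⟨Q, hQ, hQT, g, hgQ, hgr, rfl⟩ := lift_pair hT hw hwr
    obtain ⟨b, hb, rfl⟩ := hQT.ge ha
    by_contra hcon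
    push Not at hcon
    refine hne ?_
    rw [← map_commutatorElement]
    have hle : Subgroup.closure (V ∩ (Q : Set G)) ≤ π.ker := (Subgroup.closure_le _).2 fun v hv => by
      by_contra h1
      exact hcon (π v) (hQT.le ⟨v, hv.2, rfl⟩) h1 ⟨v, hv.1, pEl_of_mem hQ hv.2, rfl⟩
    exact hle (hV.comm_mem_closure hr hp hrp hQ hgr hgQ hb)

theorem VSys.solvable [Finite G] {k : ℕ} {V : Set G} (hV : VSys k V) : Group.IsSolvable G :=
  VSys.solvable_aux _ V rfl hV

/-! ### Commutator values -/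

/-- A left-normed commutator. -/
def cval (a : G) (l : List G) : G := l.foldl (fun a b => a * b * a⁻¹ * b⁻¹) a

/-- The left-normed commutators of length `k + 1`. -/
def values (k : ℕ) : Set G := {x | ∃ (a : G) (l : List G), l.length = k ∧ x = cval a l}

theorem map_cval {G' : Type*} [Group G'] (φ : G →* G') :
    ∀ (l : List G) (a : G), φ (cval a l) = cval (φ a) (l.map φ)
  | [], a => rfl
  | b :: l, a => by
    show φ (cval (a * b * a⁻¹ * b⁻¹) l) = cval (φ a * φ b * (φ a)⁻¹ * (φ b)⁻¹) (l.map φ)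
    rw [map_cval φ l, map_mul, map_mul, map_mul, map_inv, map_inv]

theorem cval_append (a g : G) (l : List G) : cval a (l ++ [g]) = ⁅cval a l, g⁆ := by
  rw [commutatorElement_def]
  simp [cval, List.foldl_append]

theorem exists_ofFn_iff (k : ℕ) (x : G) :
    (∃ f : Fin (k + 1) → G, x = ((List.ofFn f).tail).foldl (fun a b => a * b * a⁻¹ * b⁻¹) (f 0))
      ↔ x ∈ values k := by
  constructor
  · rintro ⟨f, rfl⟩
    exact ⟨f 0, _, by simp, rfl⟩
  · rintro ⟨a, l, hl, rfl⟩
    subst hl
    refine ⟨Fin.cons a l.get, ?_⟩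
    rw [List.ofFn_cons, List.tail_cons, List.ofFn_get, Fin.cons_zero]
    rfl

theorem values_mem_lcs : ∀ (k : ℕ) (x : G), x ∈ values k →
    x ∈ (⊤ : Subgroup G).lowerCentralSeries k := by
  intro k
  induction k with
  | zero => exact fun x _ => mem_top x
  | succ k ih =>
    rintro x ⟨a, l, hl, rfl⟩
    rcases l.eq_nil_or_concat' with rfl | ⟨l', g, rfl⟩
    · simp at hl
    rw [cval_append, Subgroup.lowerCentralSeries_succ]
    exact commutator_mem_commutator (ih _ ⟨a, l', by simpa using hl, rfl⟩) (mem_top g)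

theorem conj_mem_values {k : ℕ} {v : G} (hv : v ∈ values k) (g : G) : g * v * g⁻¹ ∈ values k := by
  obtain ⟨a, l, hl, rfl⟩ := hv
  exact ⟨_, l.map (MulAut.conj g).toMonoidHom, by simpa using hl,
    (map_cval (MulAut.conj g).toMonoidHom l a)⟩

theorem comm_mem_values {k : ℕ} {v : G} (hv : v ∈ values k) (g : G) : ⁅v, g⁆ ∈ values k := by
  obtain ⟨a, l, hl, rfl⟩ := hv
  rw [← cval_append]
  rcases l with _ | ⟨b, l⟩
  · exact ⟨_, [], hl, rfl⟩
  · exact ⟨a * b * a⁻¹ * b⁻¹, l ++ [g], by simpa using hl, rfl⟩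

theorem iter_eq_cval (a w : G) : ∀ j : ℕ, (cw w)^[j] a = cval a (List.replicate j w)
  | 0 => rfl
  | j + 1 => by
    rw [Function.iterate_succ_apply', iter_eq_cval a w j, List.replicate_succ', cval_append]

theorem lcs_le_closure : ∀ k : ℕ, (⊤ : Subgroup G).lowerCentralSeries k ≤ Subgroup.closure (values k) := by
  intro k
  induction k with
  | zero => exact fun x _ => Subgroup.subset_closure ⟨x, [], rfl, rfl⟩
  | succ k ih =>
    rw [Subgroup.lowerCentralSeries_succ, commutator_le]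
    intro x hx g _
    have hn : ∀ y ∈ Subgroup.closure (values (G := G) (k + 1)), ∀ g : G,
        g * y * g⁻¹ ∈ Subgroup.closure (values (k + 1)) := by
      intro y hy g
      induction hy using Subgroup.closure_induction with
      | mem v hv => exact Subgroup.subset_closure (conj_mem_values hv g)
      | one => simp
      | mul a b _ _ iha ihb => rw [← conj_mul]; exact mul_mem iha ihb
      | inv a _ iha => rw [← conj_inv]; exact inv_mem iha
    have hx' := ih hx
    clear hx
    induction hx' using Subgroup.closure_induction with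
    | mem v hv =>
      obtain ⟨a, l, hl, rfl⟩ := hv
      exact Subgroup.subset_closure ⟨a, l ++ [g], by simp [hl], (cval_append a g l).symm⟩
    | one => simp
    | mul a b _ _ iha ihb =>
      rw [show ⁅a * b, g⁆ = a * ⁅b, g⁆ * a⁻¹ * ⁅a, g⁆ by simp [commutatorElement_def, mul_assoc]]
      exact mul_mem (hn _ ihb a) iha
    | inv a _ iha =>
      rw [show ⁅a⁻¹, g⁆ = a⁻¹ * ⁅a, g⁆⁻¹ * a⁻¹⁻¹ by simp [commutatorElement_def, mul_assoc]]
      exact hn _ (inv_mem iha) a⁻¹

variable [Finite G]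

theorem values_vsys {k : ℕ}
    (h : ∀ x y : G, x ∈ values k → y ∈ values k → (orderOf x).Coprime (orderOf y) →
      (∀ r : ℕ, r.Prime → r ∣ orderOf x * orderOf y → r ∣ orderOf (x * y)) ∨
        orderOf x * orderOf y ≤ orderOf (x * y)) :
    VSys k (values (G := G) k) where
  conj v hv g := conj_mem_values hv g
  comm v hv g := comm_mem_values hv g
  iter a w := ⟨a, _, by simp, iter_eq_cval a w k⟩
  triv v hv g hc := by
    have hx : orderOf (g * v * g⁻¹) = orderOf v := (MulEquiv.orderOf_eq (MulAut.conj g) v)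
    have hyx : ⁅v, g⁆ * (g * v * g⁻¹) = v := by simp [commutatorElement_def, mul_assoc]
    have hh := h _ _ (comm_mem_values hv g) (conj_mem_values hv g) (by rw [hx]; exact hc.symm)
    rw [hyx, hx] at hh
    rcases hh with hh | hh
    · refine orderOf_eq_one_iff.1 ?_
      by_contra h1
      obtain ⟨r, hr, hrd⟩ := Nat.exists_prime_and_dvd h1
      exact hr.not_dvd_one (hc ▸ Nat.dvd_gcd (hh r hr (dvd_mul_of_dvd_left hrd _)) hrd)
    · refine orderOf_eq_one_iff.1 (le_antisymm ?_ (orderOf_pos _))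
      exact Nat.le_of_mul_le_mul_right (by rwa [one_mul]) (orderOf_pos v)

theorem isNilpotent_lcs {k : ℕ} (hV : VSys k (values (G := G) k)) :
    Group.IsNilpotent ↥((⊤ : Subgroup G).lowerCentralSeries k) := by
  haveI := hV.solvable
  set F := Cfsg.fittingSubgroup G with hF
  haveI hFn : Group.IsNilpotent F := CfsgLib.Solvable.isNilpotent_fittingSubgroup
  haveI hFN : F.Normal := CfsgLib.Solvable.fittingSubgroup_normal
  have hcore : ∀ p : ℕ, p.Prime → ∀ v ∈ values (G := G) k, PEl p v → v ∈ F := fun p hp v hv hvp => by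
    haveI := Fact.mk hp
    rw [hF, CfsgLib.Solvable.fittingSubgroup_eq_iSup_pCore]
    exact le_iSup (fun q : Nat.Primes => Cfsg.pCore (q : ℕ) G) ⟨p, hp⟩ (hV.mem_pCore hv hvp)
  set π := QuotientGroup.mk' F
  have hπ := QuotientGroup.mk'_surjective F
  haveI hnil : Group.IsNilpotent (G ⧸ F) := isNilpotent_of_localConditions fun p hp => by
    haveI := Fact.mk hp
    refine localCondition_of_parts fun Q hQ r hr hrp x hx hxr => mem_centralizer_iff.2 fun a ha => ?_
    haveI := Fact.mk hr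
    obtain ⟨R, hR, hRQ, g, hgR, hgr, rfl⟩ := lift_pair hQ hx hxr
    obtain ⟨b, hb, rfl⟩ := hRQ.ge ha
    refine commutatorElement_eq_one_iff_mul_comm.1 ?_
    rw [← map_commutatorElement, QuotientGroup.mk'_apply, QuotientGroup.eq_one_iff]
    have hle : Subgroup.closure (values (G := G) k ∩ (R : Set G)) ≤ F :=
      (Subgroup.closure_le _).2 fun v hv => hcore p hp v hv.1 (pEl_of_mem hR hv.2)
    exact hle (hV.comm_mem_closure hr hp hrp hR hgr hgR hb)
  refine nilpotent_of_le ((lcs_le_closure k).trans ((Subgroup.closure_le _).2 ?_)) hFn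
  rintro _ ⟨a, l, hl, rfl⟩
  refine (QuotientGroup.eq_one_iff _).1 ?_
  show π (cval a l) = 1
  obtain ⟨e⟩ := ((Group.isNilpotent_of_finite_tfae (G := G ⧸ F)).out 0 4).1 hnil
  refine e.symm.injective ?_
  rw [map_one]
  funext p P
  haveI := Fact.mk (Nat.prime_of_mem_primeFactors p.2)
  let φ : G →* (P : Subgroup (G ⧸ F)) :=
    ((Pi.evalMonoidHom (fun P : Sylow (p : ℕ) (G ⧸ F) => ↥(P : Subgroup (G ⧸ F))) P).comp
      (Pi.evalMonoidHom (fun q : (Nat.card (G ⧸ F)).primeFactors =>
        ∀ P : Sylow (q : ℕ) (G ⧸ F), ↥(P : Subgroup (G ⧸ F))) p)).comp (e.symm.toMonoidHom.comp π)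
  show φ (cval a l) = 1
  haveI : (P : Subgroup (G ⧸ F)).Normal := inferInstance
  let R : Sylow (p : ℕ) G := default
  obtain ⟨c, hc⟩ := MulAction.exists_smul_eq (G ⧸ F) P (R.mapSurjective hπ)
  rw [Sylow.smul_eq_of_normal] at hc
  have hRP : (R : Subgroup G).map π = (P : Subgroup (G ⧸ F)) := by
    rw [hc, Sylow.coe_mapSurjective]
  let ψ : (R : Subgroup G) →* (P : Subgroup (G ⧸ F)) :=
    (π.comp (R : Subgroup G).subtype).codRestrict _ fun x => hRP.le ⟨x, x.2, rfl⟩
  have hψ : Function.Surjective ψ := fun y => by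
    obtain ⟨x, hx, hxe⟩ := hRP.ge y.2
    exact ⟨⟨x, hx⟩, Subtype.ext hxe⟩
  obtain ⟨b, hb⟩ := hψ (φ a)
  obtain ⟨m, hm⟩ := List.map_surjective_iff.2 hψ (l.map φ)
  rw [map_cval, ← hb, ← hm, ← map_cval]
  refine Subtype.ext ((QuotientGroup.eq_one_iff _).2 (hcore p Fact.out _ ?_ ?_))
  · exact ⟨b, m.map (R : Subgroup G).subtype, by
      rw [List.length_map, ← List.length_map ψ, hm, List.length_map, hl],
      map_cval (R : Subgroup G).subtype m b⟩
  · exact pEl_of_mem R.2 (cval b m).2

theorem order_condition {k : ℕ} (h : Group.IsNilpotent ↥((⊤ : Subgroup G).lowerCentralSeries k))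
    {x y : G} (hx : x ∈ values k) (hy : y ∈ values k) (hc : (orderOf x).Coprime (orderOf y)) :
    orderOf x * orderOf y ≤ orderOf (x * y) := by
  haveI := h
  have h1 := CfsgLib.FGSA.commute_of_coprime_orderOf
    (⟨x, values_mem_lcs k x hx⟩ : ↥((⊤ : Subgroup G).lowerCentralSeries k))
    ⟨y, values_mem_lcs k y hy⟩ (by rwa [← Subgroup.orderOf_coe, ← Subgroup.orderOf_coe])
  exact ((h1.map (Subgroup.subtype _)).orderOf_mul_eq_mul_orderOf_of_coprime hc).ge

end CfsgLib.ValueSys
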