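import Cfsg.Agent.Fusion.Centric
import Cfsg.Agent.Fusion.Alperin
import Cfsg.Agent.Transfer.Frobenius
import Cfsg.Agent.Solvable.Fitting
import Cfsg.Agent.OneClass.Basic

/-!
Normal sets of iterated commutators in which no element is moved to a coprime commutator: the local
consequences.
-/

set_option autoImplicit false
set_option linter.style.haveILetI false
set_option linter.unusedSectionVars false

open Subgroup
open scoped commutatorElement

namespace CfsgLib.ValueSys

universe u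

variable {G : Type u} [Group G]

/-- An element whose order is a power of `p`. -/
def PEl (p : ℕ) (x : G) : Prop := ∃ e : ℕ, x ^ p ^ e = 1

theorem PEl.map {H : Type*} [Group H] {p : ℕ} {x : G} (h : PEl p x) (f : G →* H) : PEl p (f x) :=
  let ⟨e, he⟩ := h
  ⟨e, by rw [← map_pow, he, map_one]⟩

theorem PEl.of_injective {H : Type*} [Group H] {p : ℕ} {x : G} {f : G →* H}
    (hf : Function.Injective f) (h : PEl p (f x)) : PEl p x :=
  let ⟨e, he⟩ := h
  ⟨e, hf (by rw [map_pow, he, map_one])⟩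

theorem PEl.conj {p : ℕ} {x : G} (h : PEl p x) (g : G) : PEl p (g * x * g⁻¹) :=
  h.map (MulAut.conj g).toMonoidHom

theorem pEl_of_mem {p : ℕ} {P : Subgroup G} (hP : IsPGroup p P) {x : G} (hx : x ∈ P) : PEl p x :=
  let ⟨e, he⟩ := hP ⟨x, hx⟩
  ⟨e, by simpa using congrArg Subtype.val he⟩

theorem PEl.isPGroup {p : ℕ} {x : G} (h : PEl p x) : IsPGroup p (zpowers x) := by
  obtain ⟨e, he⟩ := h
  rintro ⟨y, hy⟩
  obtain ⟨i, rfl⟩ := mem_zpowers_iff.1 hy
  refine ⟨e, Subtype.ext ?_⟩
  show (x ^ i) ^ p ^ e = 1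
  rw [← zpow_natCast, ← zpow_mul, mul_comm, zpow_mul, zpow_natCast, he, one_zpow]

theorem PEl.exists_orderOf {p : ℕ} (hp : p.Prime) {x : G} (h : PEl p x) :
    ∃ e, orderOf x = p ^ e :=
  let ⟨_, he⟩ := h
  let ⟨j, _, hj⟩ := (Nat.dvd_prime_pow hp).1 (orderOf_dvd_of_pow_eq_one he)
  ⟨j, hj⟩

theorem PEl.coprime {p q : ℕ} (hp : p.Prime) (hq : q.Prime) (hpq : p ≠ q) {x y : G}
    (hx : PEl p x) (hy : PEl q y) : (orderOf x).Coprime (orderOf y) := by
  obtain ⟨a, ha⟩ := hx.exists_orderOf hp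
  obtain ⟨b, hb⟩ := hy.exists_orderOf hq
  rw [ha, hb]
  exact Nat.Coprime.pow _ _ ((Nat.coprime_primes hp hq).2 hpq)

theorem PEl.dvd {p : ℕ} (hp : p.Prime) {x : G} (hx : PEl p x) (h1 : x ≠ 1) : p ∣ orderOf x := by
  obtain ⟨a, ha⟩ := hx.exists_orderOf hp
  rcases a with _ | a
  · exact absurd (orderOf_eq_one_iff.1 (by rw [ha, pow_zero])) h1
  · rw [ha, pow_succ]; exact dvd_mul_left _ _

theorem PEl.eq_prime {p q : ℕ} (hp : p.Prime) (hq : q.Prime) {x : G} (hx : PEl p x) (hy : PEl q x)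
    (h1 : x ≠ 1) : p = q := by
  by_contra h
  exact h1 (orderOf_eq_one_iff.1 (Nat.coprime_self (orderOf x) |>.1 (hx.coprime hp hq h hy)))

/-- An element lies in a subgroup as soon as its prime-power parts do. -/
theorem mem_of_parts [Finite G] {g : G} {C : Subgroup G}
    (h : ∀ r : ℕ, r.Prime → r ∣ orderOf g → ∀ x ∈ zpowers g, PEl r x → x ∈ C) : g ∈ C := by
  have ht := CfsgLib.Solvable.iSup_sylow_eq_top (G := zpowers g)
    fun q => haveI := Fact.mk q.2; (default : Sylow (q : ℕ) (zpowers g))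
  suffices hle : (⊤ : Subgroup (zpowers g)) ≤ C.subgroupOf (zpowers g) from
    hle (mem_top (⟨g, mem_zpowers g⟩ : zpowers g))
  rw [← ht]
  refine iSup_le fun q x hx => ?_
  haveI := Fact.mk q.2
  have hx' : PEl (q : ℕ) (x : G) := (pEl_of_mem (Sylow.isPGroup' _) hx).map (zpowers g).subtype
  by_cases hx1 : (x : G) = 1
  · rw [mem_subgroupOf, hx1]; exact one_mem C
  · refine h q q.2 ?_ x x.2 hx'
    rw [← Nat.card_zpowers]
    exact (hx'.dvd q.2 hx1).trans (by
      rw [Subgroup.orderOf_coe]; exact orderOf_dvd_natCard x)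

theorem exists_part [Finite G] {g : G} (hg : g ≠ 1) :
    ∃ (r : ℕ) (x : G), r.Prime ∧ r ∣ orderOf g ∧ x ≠ 1 ∧ x ∈ zpowers g ∧ PEl r x := by
  obtain ⟨r, hr, hrd⟩ := Nat.exists_prime_and_dvd (fun h => hg (orderOf_eq_one_iff.1 h))
  have ho := orderOf_pow_orderOf_div (orderOf_pos g).ne' hrd
  refine ⟨r, g ^ (orderOf g / r), hr, hrd, fun h => ?_, pow_mem (mem_zpowers g) _, 1, ?_⟩
  · rw [h, orderOf_one] at ho
    exact hr.one_lt.ne ho
  · rw [pow_one]
    exact orderOf_dvd_iff_pow_eq_one.1 ho.dvd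

theorem commute_of_mem_zpowers {g x z : G} (hx : x ∈ zpowers g) (h : z * g = g * z) :
    z * x = x * z := by
  obtain ⟨i, rfl⟩ := mem_zpowers_iff.1 hx
  exact ((show Commute z g from h).zpow_right i).eq

/-- A subgroup with a normal `p`-subgroup and a `q`-element normalizing a `p`-subgroup, lifted. -/
theorem lift_pair [Finite G] {N : Subgroup G} [N.Normal] {q r : ℕ} [Fact q.Prime] [Fact r.Prime]
    {T : Subgroup (G ⧸ N)} (hT : IsPGroup q T) {w : G ⧸ N} (hw : w ∈ normalizer (T : Set (G ⧸ N)))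
    (hr : PEl r w) :
    ∃ Q : Subgroup G, IsPGroup q Q ∧ Q.map (QuotientGroup.mk' N) = T ∧
      ∃ g ∈ normalizer (Q : Set G), PEl r g ∧ QuotientGroup.mk' N g = w := by
  set π := QuotientGroup.mk' N
  set L := T.comap π
  let P : Sylow q L := default
  set Q := (P : Subgroup L).map L.subtype
  have hQL : Q ≤ L := map_subtype_le _
  have hQp : IsPGroup q Q := P.2.map _
  let φ : L →* T := π.subgroupComap T
  have hφ : Function.Surjective φ := π.subgroupComap_surjective_of_surjective T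
    (QuotientGroup.mk'_surjective N)
  have hQT : Q.map π = T := by
    refine le_antisymm (map_le_iff_le_comap.2 hQL) fun t ht => ?_
    have htop : ((P.mapSurjective hφ : Sylow q T) : Subgroup T) = ⊤ :=
      ((P.mapSurjective hφ).3 (hT.of_equiv Subgroup.topEquiv.symm) le_top).symm
    have hmem : (⟨t, ht⟩ : T) ∈ ((P.mapSurjective hφ : Sylow q T) : Subgroup T) :=
      htop ▸ mem_top _
    rw [Sylow.coe_mapSurjective] at hmem
    obtain ⟨x, hx, hxe⟩ := hmem
    exact ⟨x, ⟨x, hx, rfl⟩, congrArg Subtype.val hxe⟩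
  obtain ⟨g₀, rfl⟩ := QuotientGroup.mk'_surjective N w
  have hD : Q.map (MulAut.conj g₀).toMonoidHom ≤ L := by
    rintro _ ⟨x, hx, rfl⟩
    show π (g₀ * x * g₀⁻¹) ∈ T
    rw [map_mul, map_mul, map_inv]
    exact (mem_normalizer_iff.1 hw _).1 (hQL hx)
  obtain ⟨y, hy, hyD⟩ := CfsgLib.Fusion.SylowIn.exists_conj_le
    (⟨hQL, P, by rw [Subgroup.subgroupOf, comap_map_eq_self_of_injective L.subtype_injective]⟩ :
      CfsgLib.Fusion.SylowIn q Q L) (hQp.map _) hD
  obtain ⟨a, ha, hay⟩ : π y ∈ Q.map π := hQT.ge hy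
  set g₁ := a⁻¹ * (y * g₀)
  have hg₁ : g₁ ∈ normalizer (Q : Set G) := by
    refine mul_mem (inv_mem (le_normalizer ha)) (mem_normalizer_iff.2 ?_)
    have e : Q.map (MulAut.conj (y * g₀)).toMonoidHom = Q := by
      refine eq_of_le_of_card_ge ?_ (card_map_of_injective (MulAut.conj _).injective).ge
      rintro _ ⟨x, hx, rfl⟩
      have := hyD _ (mem_map_of_mem (MulAut.conj g₀).toMonoidHom hx)
      simpa [mul_assoc] using this
    intro x
    refine ⟨fun hx => ?_, fun hx => ?_⟩
    · rw [← e]; exact ⟨x, hx, by simp [mul_assoc]⟩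
    · rw [← e] at hx
      obtain ⟨z, hz, hze⟩ := hx
      have : z = x := (MulAut.conj (y * g₀)).injective
        (show MulAut.conj (y * g₀) z = MulAut.conj (y * g₀) x by simpa [mul_assoc] using hze)
      rwa [← this]
  have hπg₁ : π g₁ = π g₀ := by simp [g₁, hay]
  obtain ⟨k, t, hkt, hk⟩ := CfsgLib.Fusion.exists_pow_modEq r (orderOf_pos g₁).ne'
  refine ⟨Q, hQp, hQT, g₁ ^ k, pow_mem hg₁ k, ⟨t, ?_⟩, ?_⟩
  · rw [← pow_mul]
    exact orderOf_dvd_iff_pow_eq_one.1 hkt
  · rw [map_pow, hπg₁]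
    obtain ⟨b, hb⟩ := hr.exists_orderOf Fact.out
    refine CfsgLib.Fusion.pow_eq_self_of_modEq (n := r ^ b) (hb ▸ pow_orderOf_eq_one _) (hk b ?_)
    rw [← hb, ← hπg₁]
    exact orderOf_map_dvd π g₁

/-- `x ↦ ⁅x, w⁆`. -/
abbrev cw (w x : G) : G := ⁅x, w⁆

/-- A normal set containing the `k`-fold commutators and rigid against coprime commutators. -/
structure VSys (k : ℕ) (V : Set G) : Prop where
  conj : ∀ v ∈ V, ∀ g : G, g * v * g⁻¹ ∈ V
  comm : ∀ v ∈ V, ∀ g : G, ⁅v, g⁆ ∈ V
  iter : ∀ a w : G, (cw w)^[k] a ∈ V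
  triv : ∀ v ∈ V, ∀ g : G, (orderOf v).Coprime (orderOf ⁅v, g⁆) → ⁅v, g⁆ = 1

variable {k : ℕ} {V : Set G}

theorem coe_iter (H : Subgroup G) (a w : H) :
    ∀ j : ℕ, (((cw w)^[j] a : H) : G) = (cw (w : G))^[j] (a : G)
  | 0 => rfl
  | j + 1 => by
    rw [Function.iterate_succ_apply', Function.iterate_succ_apply', ← coe_iter H a w j]
    rfl

theorem VSys.restrict (hV : VSys k V) (H : Subgroup G) : VSys k {x : H | (x : G) ∈ V} where
  conj v hv g := hV.conj _ hv g
  comm v hv g := hV.comm _ hv g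
  iter a w := by
    show ((_ : H) : G) ∈ V
    rw [coe_iter]
    exact hV.iter _ _
  triv v hv g hc := by
    refine Subtype.ext (hV.triv _ hv g ?_)
    rw [← Subgroup.orderOf_coe, ← Subgroup.orderOf_coe] at hc
    exact hc

theorem comm_eq_one_of_fixed [Finite G] {b w : G} (hc : (orderOf ⁅b, w⁆).Coprime (orderOf w))
    (h : ⁅⁅b, w⁆, w⁆ = 1) : ⁅b, w⁆ = 1 := by
  have h1 : Commute ⁅b, w⁆ w := commutatorElement_eq_one_iff_mul_comm.1 h
  have h2 : ⁅b, w⁆ * w = MulAut.conj b w := by simp [commutatorElement_def]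
  have h3 := h1.orderOf_mul_eq_mul_orderOf_of_coprime hc
  rw [h2, MulEquiv.orderOf_eq] at h3
  refine orderOf_eq_one_iff.1 (Nat.eq_of_mul_eq_mul_right (orderOf_pos w) ?_)
  rw [one_mul, ← h3]

variable [Finite G]

theorem VSys.centralize (hV : VSys k V) {p q : ℕ} (hp : p.Prime) (hq : q.Prime) (hpq : p ≠ q)
    {v : G} (hv : v ∈ V) (hvp : PEl p v) {Q : Subgroup G} (hQ : IsPGroup q Q)
    (hvQ : v ∈ normalizer (Q : Set G)) {a : G} (ha : a ∈ Q) : v * a = a * v := by
  refine commutatorElement_eq_one_iff_mul_comm.1 (hV.triv v hv a (hvp.coprime hp hq hpq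
    (pEl_of_mem hQ ?_)))
  rw [commutatorElement_def]
  exact mul_mem ((mem_normalizer_iff.1 hvQ a).1 ha) (inv_mem ha)

theorem comm_mem_of_normalizer {Q : Subgroup G} {w a : G} (hw : w ∈ normalizer (Q : Set G))
    (ha : a ∈ Q) : ⁅a, w⁆ ∈ Q := by
  rw [show ⁅a, w⁆ = a * (w * a⁻¹ * w⁻¹) by simp [commutatorElement_def, mul_assoc]]
  exact mul_mem ha ((mem_normalizer_iff.1 hw _).1 (inv_mem ha))

/-- The values in `Q` generate all commutators with a coprime element. -/
theorem VSys.comm_mem_closure (hV : VSys k V) {p q : ℕ} (hp : p.Prime) (hq : q.Prime)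
    (hpq : p ≠ q) {Q : Subgroup G} (hQ : IsPGroup q Q) {w : G} (hwp : PEl p w)
    (hw : w ∈ normalizer (Q : Set G)) {a : G} (ha : a ∈ Q) :
    ⁅a, w⁆ ∈ closure (V ∩ (Q : Set G)) := by
  set W := closure (V ∩ (Q : Set G))
  set M := Q ⊔ zpowers w
  have hMQ : M ≤ normalizer (Q : Set G) := sup_le le_normalizer (zpowers_le.2 hw)
  have hM : M ≤ normalizer (W : Set G) := fun g hg => by
    have hle : ∀ g ∈ M, ∀ x ∈ W, g * x * g⁻¹ ∈ W := by
      intro g hg x hx
      induction hx using closure_induction with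
      | mem y hy =>
        exact subset_closure ⟨hV.conj y hy.1 g, (mem_normalizer_iff.1 (hMQ hg) y).1 hy.2⟩
      | one => simp
      | mul a b _ _ iha ihb => rw [← conj_mul]; exact mul_mem iha ihb
      | inv a _ iha => rw [← conj_inv]; exact inv_mem iha
    refine mem_normalizer_iff.2 fun x => ⟨hle g hg x, fun hx => ?_⟩
    simpa [mul_assoc] using hle g⁻¹ (inv_mem hg) _ hx
  haveI : (W.subgroupOf M).Normal :=
    (normal_subgroupOf_iff_le_normalizer ((closure_le _).2 fun x hx => mem_sup_left hx.2)).2 hM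
  set π := QuotientGroup.mk' (W.subgroupOf M)
  set w' : M := ⟨w, mem_sup_right (mem_zpowers w)⟩
  set a' : M := ⟨a, mem_sup_left ha⟩
  have hit : ∀ j : ℕ, π ((cw w')^[j] a') = (cw (π w'))^[j] (π a') := by
    intro j
    induction j with
    | zero => rfl
    | succ j ih => rw [Function.iterate_succ_apply', Function.iterate_succ_apply', ← ih, cw, cw,
        map_commutatorElement]
  have hmem : ∀ j : ℕ, (((cw w')^[j] a' : M) : G) ∈ Q := by
    intro j
    induction j with
    | zero => exact ha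
    | succ j ih => rw [Function.iterate_succ_apply']; exact comm_mem_of_normalizer hw ih
  have hk : (cw (π w'))^[k] (π a') = 1 := by
    rw [← hit, QuotientGroup.mk'_apply, QuotientGroup.eq_one_iff, mem_subgroupOf]
    refine subset_closure ⟨?_, hmem k⟩
    rw [coe_iter]
    exact hV.iter a w
  have hdown : ∀ j : ℕ, (cw (π w'))^[j + 1] (π a') = 1 → ⁅π a', π w'⁆ = 1 := by
    intro j
    induction j with
    | zero => exact id
    | succ j ih =>
      intro h
      refine ih ?_
      rw [Function.iterate_succ_apply', Function.iterate_succ_apply'] at h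
      rw [Function.iterate_succ_apply']
      refine comm_eq_one_of_fixed (PEl.coprime hq hp (Ne.symm hpq) ?_ ?_) h
      · have e := Function.iterate_succ_apply' (cw (π w')) j (π a')
        change _ = ⁅_, _⁆ at e
        rw [← e, ← hit]
        exact ((pEl_of_mem hQ (hmem _)).of_injective (f := M.subtype) M.subtype_injective).map π
      · exact (hwp.of_injective (f := M.subtype) (x := w') M.subtype_injective).map π
  have h1 : π ⁅a', w'⁆ = 1 := by
    rw [map_commutatorElement]
    refine hdown k ?_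
    rw [Function.iterate_succ_apply', hk]
    exact commutatorElement_one_left _
  rw [QuotientGroup.mk'_apply, QuotientGroup.eq_one_iff, mem_subgroupOf] at h1
  exact h1

/-- A `p`-element of `V` centralizes every `q`-layer above a normal `p`-subgroup. -/
theorem VSys.comm_mem_core (hV : VSys k V) {p q : ℕ} [Fact p.Prime] [Fact q.Prime] (hpq : p ≠ q)
    {v : G} (hv : v ∈ V) (hvp : PEl p v) {O Q : Subgroup G} [O.Normal] (hO : IsPGroup p O)
    (hQ : IsPGroup q Q) (hL : (O ⊔ Q).Normal) {a : G} (ha : a ∈ Q) : ⁅v, a⁆ ∈ O := by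
  have hp := (Fact.out : p.Prime)
  have hq := (Fact.out : q.Prime)
  obtain ⟨i, hi⟩ := IsPGroup.iff_card.1 hO
  obtain ⟨j, hj⟩ := IsPGroup.iff_card.1 hQ
  set L := O ⊔ Q with hLd
  -- `Q` is a Sylow subgroup of `L`
  have hndvd : ¬ q ∣ (Q.subgroupOf L).index := by
    have hOQ : O ⊓ Q = ⊥ := Subgroup.inf_eq_bot_of_coprime
      (by rw [hi, hj]; exact Nat.Coprime.pow _ _ ((Nat.coprime_primes hp hq).2 hpq))
    have hc : Nat.card L = Nat.card Q * Nat.card O := by
      rw [hLd, sup_comm, CfsgLib.Solvable.card_sup_of_disjoint le_normalizer_of_normal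
        (by rw [inf_comm, hOQ])]
    have h2 := (Q.subgroupOf L).card_mul_index
    rw [Nat.card_congr (subgroupOfEquivOfLe (le_sup_right : Q ≤ L)).toEquiv, hc] at h2
    rw [Nat.eq_of_mul_eq_mul_left Nat.card_pos h2, hi]
    exact fun h => hpq ((Nat.prime_dvd_prime_iff_eq hq hp).1 (hq.dvd_of_dvd_pow h)).symm
  let P : Sylow q L := (hQ.comap_subtype (K := L)).toSylow hndvd
  have hPQ : (P : Subgroup L).map L.subtype = Q := by
    rw [show (P : Subgroup L) = Q.subgroupOf L from rfl, subgroupOf_map_subtype, inf_eq_left.2 le_sup_right]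
  haveI := hL
  have hfr := Sylow.normalizer_sup_eq_top P
  rw [hPQ] at hfr
  have hvmem : v ∈ O ⊔ normalizer (Q : Set G) := by
    have : normalizer (Q : Set G) ⊔ L ≤ O ⊔ normalizer (Q : Set G) :=
      sup_le le_sup_right (sup_le le_sup_left (le_normalizer.trans le_sup_right))
    exact this (hfr.ge (mem_top v))
  obtain ⟨u, hu, w, hw, rfl⟩ := mem_sup_of_normal_left.1 hvmem
  have hwp : PEl p w := by
    have hsup : IsPGroup p ↥(O ⊔ zpowers (u * w)) := hO.to_sup_of_normal_left hvp.isPGroup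
    refine pEl_of_mem hsup ?_
    have := mul_mem (inv_mem (mem_sup_left (T := zpowers (u * w)) hu))
      (mem_sup_right (S := O) (mem_zpowers (u * w)))
    rwa [inv_mul_cancel_left] at this
  set W := closure (V ∩ (Q : Set G))
  have huW : ∀ y ∈ W, u * y = y * u := by
    intro y hy
    induction hy using closure_induction with
    | mem y hy =>
      refine (commutatorElement_eq_one_iff_mul_comm.1 (hV.triv y hy.1 u ?_)).symm
      refine (pEl_of_mem hQ hy.2).coprime hq hp (Ne.symm hpq) (pEl_of_mem hO ?_)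
      rw [commutatorElement_def]
      exact mul_mem ((‹O.Normal›).conj_mem u hu y) (inv_mem hu)
    | one => simp
    | mul a b _ _ iha ihb => exact (Commute.mul_right (show Commute u a from iha) ihb).eq
    | inv a _ iha => exact (show Commute u a from iha).inv_right.eq
  have hWQ : W ≤ Q := (closure_le _).2 fun x hx => hx.2
  have hconj : ∀ y ∈ V ∩ (Q : Set G), u * w * y * (u * w)⁻¹ = w * y * w⁻¹ := fun y hy => by
    have hm : w * y * w⁻¹ ∈ W :=
      subset_closure ⟨hV.conj y hy.1 w, (mem_normalizer_iff.1 hw y).1 hy.2⟩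
    calc u * w * y * (u * w)⁻¹ = u * (w * y * w⁻¹) * u⁻¹ := by group
      _ = w * y * w⁻¹ := by rw [huW _ hm, mul_inv_cancel_right]
  have hvW : u * w ∈ normalizer (W : Set G) := by
    have hle : W.map (MulAut.conj (u * w)).toMonoidHom ≤ W := by
      rw [MonoidHom.map_closure, closure_le]
      rintro _ ⟨y, hy, rfl⟩
      show u * w * y * (u * w)⁻¹ ∈ W
      rw [hconj y hy]
      exact subset_closure ⟨hV.conj y hy.1 w, (mem_normalizer_iff.1 hw y).1 hy.2⟩
    have e := eq_of_le_of_card_ge hle (card_map_of_injective (MulAut.conj _).injective).ge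
    refine mem_normalizer_iff.2 fun y => ⟨fun hy => hle ⟨y, hy, rfl⟩, fun hy => ?_⟩
    rw [← e] at hy
    obtain ⟨z, hz, hze⟩ := hy
    rwa [← (MulAut.conj (u * w)).injective
      (show MulAut.conj (u * w) z = MulAut.conj (u * w) y from hze)]
  have hwW : ∀ y ∈ W, w * y = y * w := fun y hy => by
    have h1 : Commute (u * w) y := hV.centralize hp hq hpq hv hvp (hQ.to_le hWQ) hvW hy
    have h2 : Commute u y := huW y hy
    have := (h2.inv_left.mul_left h1).eq
    simpa using this
  have haw : ⁅a, w⁆ = 1 := by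
    have hm := hV.comm_mem_closure hp hq hpq hQ hwp hw ha
    exact comm_eq_one_of_fixed ((pEl_of_mem hQ (comm_mem_of_normalizer hw ha)).coprime hq hp
      (Ne.symm hpq) hwp) (commutatorElement_eq_one_iff_mul_comm.2 (hwW _ hm).symm)
  have haw' : a * w = w * a := commutatorElement_eq_one_iff_mul_comm.1 haw
  rw [show ⁅u * w, a⁆ = u * (w * a) * w⁻¹ * u⁻¹ * a⁻¹ by simp [commutatorElement_def, mul_assoc],
    ← haw', show u * (a * w) * w⁻¹ * u⁻¹ * a⁻¹ = u * (a * u⁻¹ * a⁻¹) by group]
  exact mul_mem hu ((‹O.Normal›).conj_mem _ (inv_mem hu) a)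

/-- In a solvable group the `p`-elements of `V` lie in `O_p`. -/
theorem VSys.mem_pCore [Group.IsSolvable G] (hV : VSys k V) {p : ℕ} [Fact p.Prime] {v : G}
    (hv : v ∈ V) (hvp : PEl p v) : v ∈ Cfsg.pCore p G := by
  set O := Cfsg.pCore p G
  have hOn : O.Normal := (CfsgLib.Solvable.pCore_spec p).1
  haveI := hOn
  set π := QuotientGroup.mk' O
  set F := Cfsg.fittingSubgroup (G ⧸ O)
  have hOp : IsPGroup p O := CfsgLib.Solvable.isPGroup_pCore p
  have hvC : π v ∈ centralizer (F : Set (G ⧸ O)) := by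
    have hle : F ≤ centralizer ({π v} : Set (G ⧸ O)) := by
      show Cfsg.fittingSubgroup (G ⧸ O) ≤ _
      rw [CfsgLib.Solvable.fittingSubgroup_eq_iSup_pCore]
      refine iSup_le fun q => ?_
      haveI := Fact.mk q.2
      by_cases hqp : (q : ℕ) = p
      · rw [hqp, CfsgLib.OneClass.pCore_quotient_pCore]
        exact bot_le
      have hTn : (Cfsg.pCore (q : ℕ) (G ⧸ O)).Normal := (CfsgLib.Solvable.pCore_spec _).1
      obtain ⟨Q, hQ, hQT, -⟩ := lift_pair (N := O) (r := p)
        (CfsgLib.Solvable.isPGroup_pCore (G := G ⧸ O) (q : ℕ)) (w := 1) (one_mem _) ⟨0, by simp⟩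
      have hL : (O ⊔ Q).Normal := by
        have e : (Q.map π).comap π = O ⊔ Q := by
          rw [comap_map_eq, QuotientGroup.ker_mk', sup_comm]
        rw [← e, hQT]
        exact hTn.comap π
      intro x hx
      obtain ⟨a, ha, rfl⟩ := hQT.ge hx
      have h := hV.comm_mem_core (Ne.symm hqp) hv hvp hOp hQ hL ha
      refine mem_centralizer_singleton_iff.2 ?_
      rw [← QuotientGroup.eq_one_iff, ← QuotientGroup.mk'_apply, map_commutatorElement,
        commutatorElement_eq_one_iff_mul_comm] at h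
      exact h.symm
    exact mem_centralizer_iff.2 fun x hx => mem_centralizer_singleton_iff.1 (hle hx)
  haveI : Group.IsSolvable (G ⧸ O) :=
    Group.isSolvable_of_surjective (QuotientGroup.mk'_surjective O)
  have hvF : π v ∈ F := CfsgLib.Fitting.centralizer_fittingSubgroup_le_of_solvable hvC
  haveI hFn : Group.IsNilpotent F := CfsgLib.Solvable.isNilpotent_fittingSubgroup
  haveI hFN : F.Normal := CfsgLib.Solvable.fittingSubgroup_normal
  let P : Sylow p F := default
  haveI hPn : (P : Subgroup F).Normal := inferInstance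
  haveI := Sylow.characteristic_of_normal P hPn
  have hle : (P : Subgroup F).map F.subtype ≤ Cfsg.pCore p (G ⧸ O) :=
    CfsgLib.Solvable.le_pCore p inferInstance (P.2.map _)
  rw [CfsgLib.OneClass.pCore_quotient_pCore] at hle
  obtain ⟨R, hR⟩ := ((hvp.map π).of_injective (x := (⟨π v, hvF⟩ : F)) (f := F.subtype)
    F.subtype_injective).isPGroup.exists_le_sylow
  obtain ⟨c, hc⟩ := MulAction.exists_smul_eq F R P
  have hPbot : (P : Subgroup F) = ⊥ := (Subgroup.map_eq_bot_iff_of_injective _ F.subtype_injective).1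
    (le_bot_iff.1 hle)
  have hRbot : (R : Subgroup F) = ⊥ := card_eq_one.1 (by
    rw [Sylow.card_eq_multiplicity, ← Sylow.card_eq_multiplicity P, hPbot, card_bot])
  have h1 : (⟨π v, hvF⟩ : F) = 1 := mem_bot.1 (hRbot ▸ hR (mem_zpowers _))
  exact (QuotientGroup.eq_one_iff v).1 (congrArg Subtype.val h1)

end CfsgLib.ValueSys
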