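import Cfsg.Agent.ValueSys.Local
import Cfsg.Agent.FGSA.ThompsonNil
import Cfsg.Agent.Char.FrobeniusKernel
import Cfsg.Agent.Char.CNTheorem
import Cfsg.Agent.Invol.BaerSuzuki

/-!
No simple group has distinguished elements lying in the cores of all proper subgroups.
-/

set_option autoImplicit false
set_option linter.style.haveILetI false
set_option linter.unusedSectionVars false

open Subgroup
open scoped commutatorElement

namespace CfsgLib.ValueSys

universe u

variable {H : Type u} [Group H]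

/-- The pure elements of a maximal subgroup, as a subgroup. -/
def kk (good : ℕ → H → Prop) (M : Subgroup H) : Subgroup H :=
  M ⊓ ⨅ q : {q : ℕ // q.Prime ∧ ¬ Fam good q M}, (Cfsg.pResidual q M).map M.subtype

/-- A subgroup in which no prime is distinguished in every maximal subgroup above it. -/
def Thin (good : ℕ → H → Prop) (S : Subgroup H) : Prop :=
  ∀ r : ℕ, r.Prime → r ∣ Nat.card S → ∃ M, IsCoatom M ∧ S ≤ M ∧ ¬ Fam good r M

/-- A complement of the pure elements in a maximal subgroup. -/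
structure Compl (good : ℕ → H → Prop) (M C : Subgroup H) : Prop where
  coatom : IsCoatom M
  le : C ≤ M
  card : Nat.card (kk good M) * Nat.card C = Nat.card M
  prime : ∀ r : ℕ, r.Prime → r ∣ Nat.card C → ¬ Fam good r M

/-- The maximal subgroups belonging to the elements of `D`. -/
def Attached (good : ℕ → H → Prop) (D N : Subgroup H) : Prop :=
  ∃ (r : ℕ) (y : H), r.Prime ∧ y ∈ D ∧ PEl r y ∧ y ≠ 1 ∧ Fam good r N ∧ y ∈ N

theorem PEl.eq_of_dvd_orderOf {r s : ℕ} (hr : r.Prime) (hs : s.Prime) {x : H} (hx : PEl r x)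
    (hd : s ∣ orderOf x) : s = r := by
  obtain ⟨a, ha⟩ := hx.exists_orderOf hr
  exact (Nat.prime_dvd_prime_iff_eq hs hr).1 (hs.dvd_of_dvd_pow (ha ▸ hd))

theorem card_ne_one_add_one [Finite H] (K : Subgroup H) :
    Nat.card {x : H // x ∈ K ∧ x ≠ 1} + 1 = Nat.card K := by
  classical
  rw [← Finite.card_option]
  refine Nat.card_congr (Equiv.ofBijective (fun o => o.elim (1 : K) fun x => ⟨x, x.2.1⟩) ⟨?_, ?_⟩)
  · rintro (_ | x) (_ | y) h
    · rfl
    · exact absurd (congrArg Subtype.val h).symm y.2.2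
    · exact absurd (congrArg Subtype.val h) x.2.2
    · have h' : (⟨x.1, x.2.1⟩ : K) = ⟨y.1, y.2.1⟩ := h
      exact congrArg some (Subtype.ext (congrArg Subtype.val h' :))
  · rintro ⟨x, hx⟩
    by_cases h : x = 1
    · exact ⟨none, Subtype.ext h.symm⟩
    · exact ⟨some ⟨x, hx, h⟩, rfl⟩

theorem conj_mem_zpowers {g u x : H} (h : u ∈ zpowers x) :
    g * u * g⁻¹ ∈ zpowers (g * x * g⁻¹) := by
  obtain ⟨i, rfl⟩ := mem_zpowers_iff.1 h
  exact ⟨i, map_zpow (MulAut.conj g) x i |>.symm⟩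

theorem mem_normalizer_zpowers {t x : H} (h : t * x * t⁻¹ = x⁻¹) :
    t ∈ normalizer (zpowers x : Set H) := by
  have e : (zpowers x).map (MulAut.conj t).toMonoidHom = zpowers x := by
    rw [MonoidHom.map_zpowers]
    show zpowers (t * x * t⁻¹) = _
    rw [h, zpowers_inv]
  refine mem_normalizer_iff.2 fun y => ⟨fun hy => e ▸ ⟨y, hy, rfl⟩, fun hy => ?_⟩
  rw [← e] at hy
  obtain ⟨z, hz, hze⟩ := hy
  rwa [← (MulAut.conj t).injective (show MulAut.conj t z = MulAut.conj t y from hze)]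

theorem nilpotent_of_le [Finite H] {A B : Subgroup H} (hAB : A ≤ B) (hB : Group.IsNilpotent B) :
    Group.IsNilpotent A :=
  (Group.isNilpotent_congr (subgroupOfEquivOfLe hAB)).1 inferInstance

variable [Finite H]

theorem exists_part_dvd {g : H} {r : ℕ} (hr : r.Prime) (hrd : r ∣ orderOf g) :
    ∃ x ∈ zpowers g, x ≠ 1 ∧ x ^ r = 1 ∧ PEl r x := by
  have ho := orderOf_pow_orderOf_div (orderOf_pos g).ne' hrd
  have h1 : (g ^ (orderOf g / r)) ^ r = 1 := orderOf_dvd_iff_pow_eq_one.1 ho.dvd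
  refine ⟨g ^ (orderOf g / r), pow_mem (mem_zpowers g) _, fun h => ?_, h1, 1, by rw [pow_one]; exact h1⟩
  rw [h, orderOf_one] at ho
  exact hr.one_lt.ne ho

variable {good : ℕ → H → Prop} (hg : Good good)
include hg

theorem Good.mem_kk {M : Subgroup H} (hM : IsCoatom M) {x : H} :
    x ∈ kk good M ↔ Pure good M x := by
  constructor
  · intro hx
    refine ⟨(mem_inf.1 hx).1, fun r hr hrd => by_contra fun hf => ?_⟩
    haveI := Fact.mk hr
    obtain ⟨m, hm, rfl⟩ := mem_iInf.1 (mem_inf.1 hx).2 ⟨r, hr, hf⟩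
    have hc := CfsgLib.PResidual.hasNormalPComplement_iff.1
      (CfsgLib.Fusion.hasNormalPComplement_of_localCondition (hg.local_of_not_fam (S := M) hM le_rfl hf))
    rw [coe_subtype, Subgroup.orderOf_coe] at hrd
    exact hr.coprime_iff_not_dvd.1 (hc.coprime_dvd_left (Subgroup.orderOf_dvd_natCard _ hm)).symm hrd
  · rintro ⟨hxM, hx⟩
    refine mem_inf.2 ⟨hxM, mem_iInf.2 fun q => ⟨⟨x, hxM⟩, CfsgLib.PResidual.mem_pResidual _ ?_, rfl⟩⟩
    refine (q.2.1.coprime_iff_not_dvd.2 fun h => q.2.2 (hx q q.2.1 ?_)).symm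
    rwa [← Subgroup.orderOf_coe] at h

theorem Good.kk_le {M : Subgroup H} : kk good M ≤ M := inf_le_left

theorem Good.pure_of_fam {M : Subgroup H} {r : ℕ} (hr : r.Prime) {x : H} (hxM : x ∈ M)
    (hx : PEl r x) (hf : Fam good r M) : Pure good M x :=
  ⟨hxM, fun s hs hsd => by rwa [hx.eq_of_dvd_orderOf hr hs hsd]⟩

theorem Good.conj_mem_kk {M : Subgroup H} (hM : IsCoatom M) {g x : H} (hgM : g ∈ M)
    (hx : x ∈ kk good M) : g * x * g⁻¹ ∈ kk good M := by
  obtain ⟨h1, h2⟩ := (hg.mem_kk hM).1 hx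
  refine (hg.mem_kk hM).2 ⟨mul_mem (mul_mem hgM h1) (inv_mem hgM), fun r hr hrd => h2 r hr ?_⟩
  rwa [show g * x * g⁻¹ = MulAut.conj g x from rfl, MulEquiv.orderOf_eq] at hrd

theorem Good.le_normalizer_kk {M : Subgroup H} (hM : IsCoatom M) :
    M ≤ normalizer (kk good M : Set H) := fun g hgM =>
  mem_normalizer_iff.2 fun x => ⟨hg.conj_mem_kk hM hgM, fun h => by
    simpa [mul_assoc] using hg.conj_mem_kk hM (inv_mem hgM) h⟩

theorem Good.fam_of_dvd_kk {M : Subgroup H} (hM : IsCoatom M) {r : ℕ} (hr : r.Prime)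
    (hd : r ∣ Nat.card (kk good M)) : Fam good r M := by
  haveI := Fact.mk hr
  obtain ⟨x, hx⟩ := exists_prime_orderOf_dvd_card' r hd
  exact ((hg.mem_kk hM).1 x.2).2 r hr (by rw [Subgroup.orderOf_coe, hx])

theorem Good.not_fam_of_ne {M L : Subgroup H} {r : ℕ} (hr : r.Prime) {z : H} (hzM : z ∈ M)
    (hzL : z ∈ L) (hz : PEl r z) (hz1 : z ≠ 1) (hL : Fam good r L) (hne : M ≠ L) :
    ¬ Fam good r M := fun h =>
  haveI := Fact.mk hr
  hne (hg.fam_eq h hL hzM hzL hz hz1)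

/-! ### Thin subgroups -/

theorem Good.thin_local {S : Subgroup H} (hS : Thin good S) :
    ∀ r : ℕ, r.Prime → CfsgLib.Fusion.LocalCondition r S := by
  intro r hr
  haveI := Fact.mk hr
  by_cases hd : r ∣ Nat.card S
  · obtain ⟨M, hM, hle, hf⟩ := hS r hr hd
    exact hg.local_of_not_fam hM hle hf
  · refine localCondition_of_parts fun Q hQ s _ _ x _ _ => mem_centralizer_iff.2 fun a ha => ?_
    have : a = 1 := by
      by_contra h1
      exact hd (((pEl_of_mem hQ ha).dvd hr h1).trans (orderOf_dvd_natCard a))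
    rw [this, one_mul, mul_one]

theorem Good.thin_commute {S : Subgroup H} (hS : Thin good S) {p q : ℕ} (hp : p.Prime)
    (hq : q.Prime) (hpq : p ≠ q) {x y : H} (hx : x ∈ S) (hy : y ∈ S) (hxp : PEl p x)
    (hyq : PEl q y) : x * y = y * x :=
  congrArg Subtype.val (commute_of_localConditions (hg.thin_local hS) hp hq hpq
    (hxp.of_injective (x := (⟨x, hx⟩ : S)) S.subtype_injective)
    (hyq.of_injective (x := (⟨y, hy⟩ : S)) S.subtype_injective))

theorem Good.thin_inf {M L : Subgroup H} (hM : IsCoatom M) (hL : IsCoatom L) (hne : M ≠ L) :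
    Thin good (M ⊓ L) := by
  intro r hr hd
  haveI := Fact.mk hr
  by_cases hf : Fam good r M
  · obtain ⟨x, hx⟩ := exists_prime_orderOf_dvd_card' r hd
    refine ⟨L, hL, inf_le_right, fun hf' => hne (hg.fam_eq hf hf' x.2.1 x.2.2 ⟨1, ?_⟩ fun h => ?_)⟩
    · rw [pow_one, ← hx, ← Subgroup.orderOf_coe, pow_orderOf_eq_one]
    · rw [← Subgroup.orderOf_coe, h, orderOf_one] at hx
      exact hr.one_lt.ne hx
  · exact ⟨M, hM, inf_le_left, hf⟩

theorem Good.compl_thin {M C : Subgroup H} (hC : Compl good M C) : Thin good C :=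
  fun r hr hd => ⟨M, hC.coatom, hC.le, hC.prime r hr hd⟩

theorem Good.mem_compl {M C S : Subgroup H} (hC : Compl good M C) (hCS : C ≤ S) (hSM : S ≤ M)
    (hS : Thin good S) {r : ℕ} (hr : r.Prime) {x : H} (hx : x ∈ S) (hxr : PEl r x)
    (hf : ¬ Fam good r M) : x ∈ C := by
  haveI := Fact.mk hr
  refine mem_subgroupOf.1 (mem_of_index (hg.thin_local hS) (C := C.subgroupOf S) (fun hd => hf ?_)
    (x := (⟨x, hx⟩ : S)) (hxr.of_injective S.subtype_injective))
  refine hg.fam_of_dvd_kk hC.coatom hr ?_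
  have h1 : (C.subgroupOf M).index = Nat.card (kk good M) := by
    refine Nat.eq_of_mul_eq_mul_left (Nat.card_pos (α := C)) ?_
    rw [mul_comm (Nat.card C) (Nat.card (kk good M)), hC.card,
      ← Nat.card_congr (subgroupOfEquivOfLe hC.le).toEquiv, card_mul_index]
  rw [← h1]
  exact hd.trans (Dvd.intro _ (relIndex_mul_relIndex C S M hCS hSM))

theorem Good.exists_compl {M : Subgroup H} (hM : IsCoatom M) {q : ℕ} [hq : Fact q.Prime] {w : H}
    (hwM : w ∈ M) (hw : PEl q w) (hf : ¬ Fam good q M) : ∃ C, Compl good M C ∧ w ∈ C := by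
  set K := (kk good M).subgroupOf M
  haveI : K.Normal := (normal_subgroupOf_iff_le_normalizer hg.kk_le).2 (hg.le_normalizer_kk hM)
  have hKc : Nat.card K = Nat.card (kk good M) :=
    Nat.card_congr (subgroupOfEquivOfLe hg.kk_le).toEquiv
  have hcop : (Nat.card K).Coprime K.index := Nat.coprime_of_dvd fun r hr hrK hrI => by
    haveI := Fact.mk hr
    rw [hKc] at hrK
    let R : Sylow r M := default
    have hR : (R : Subgroup M) ≤ K := fun y hy => mem_subgroupOf.2 ((hg.mem_kk hM).2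
      (hg.pure_of_fam hr y.2 ((pEl_of_mem R.2 hy).map M.subtype) (hg.fam_of_dvd_kk hM hr hrK)))
    exact R.not_dvd_index (hrI.trans (index_dvd_of_le hR))
  obtain ⟨C₀, hC₀⟩ := exists_right_complement'_of_coprime hcop
  let Q : Sylow q C₀ := default
  have hCi : C₀.index = Nat.card K := hC₀.index_eq_card
  have hidx : ¬ q ∣ ((Q : Subgroup C₀).map C₀.subtype).index := by
    rw [index_map_subtype]
    exact fun hd => (hq.out.dvd_mul.1 hd).elim Q.not_dvd_index fun h =>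
      hf (hg.fam_of_dvd_kk hM hq.out (hKc ▸ hCi ▸ h))
  let Q' : Sylow q M := (Q.2.map C₀.subtype).toSylow hidx
  obtain ⟨T, hT⟩ :=
    (hw.of_injective (x := (⟨w, hwM⟩ : M)) M.subtype_injective).isPGroup.exists_le_sylow
  obtain ⟨g, hgT⟩ := MulAction.exists_smul_eq M Q' T
  refine ⟨(C₀.map (MulAut.conj g).toMonoidHom).map M.subtype, ?_, ?_⟩
  · have hc : Nat.card ↥((C₀.map (MulAut.conj g).toMonoidHom).map M.subtype) = Nat.card C₀ := by
      rw [card_map_of_injective M.subtype_injective,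
        card_map_of_injective (MulAut.conj g).injective]
    refine ⟨hM, map_subtype_le _, ?_, fun r hr hd hfr => ?_⟩
    · rw [hc, ← hKc, hC₀.card_mul]
    · rw [hc, ← hC₀.symm.index_eq_card] at hd
      haveI := Fact.mk hr
      let R : Sylow r M := default
      have hR : (R : Subgroup M) ≤ K := fun y hy => mem_subgroupOf.2 ((hg.mem_kk hM).2
        (hg.pure_of_fam hr y.2 ((pEl_of_mem R.2 hy).map M.subtype) hfr))
      exact R.not_dvd_index (hd.trans (index_dvd_of_le hR))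
  · have hwT : (⟨w, hwM⟩ : M) ∈ (T : Subgroup M) := hT (mem_zpowers _)
    rw [← hgT, Sylow.coe_subgroup_smul] at hwT
    obtain ⟨y, hy, hye⟩ := hwT
    exact ⟨⟨w, hwM⟩, ⟨y, map_subtype_le _ hy, hye⟩, rfl⟩

theorem Good.compl_le {M C L : Subgroup H} (hC : Compl good M C) {q : ℕ} [hq : Fact q.Prime]
    {w : H} (hwC : w ∈ C) (hw : PEl q w) (hw1 : w ≠ 1) (hL : Fam good q L) (hwL : w ∈ L) :
    C ≤ L := by
  have hS := hg.compl_thin hC
  haveI := isNilpotent_of_localConditions (hg.thin_local hS)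
  intro c hc
  refine mem_of_parts fun r hr _ x hx hxr => ?_
  have hxC : x ∈ C := zpowers_le.2 hc hx
  by_cases hrq : r = q
  · subst hrq
    obtain ⟨P, hP⟩ :=
      (hw.of_injective (x := (⟨w, hwC⟩ : C)) C.subtype_injective).isPGroup.exists_le_sylow
    obtain ⟨T, hT⟩ :=
      (hxr.of_injective (x := (⟨x, hxC⟩ : C)) C.subtype_injective).isPGroup.exists_le_sylow
    obtain ⟨g, hgP⟩ := MulAction.exists_smul_eq C P T
    haveI : (P : Subgroup C).Normal := inferInstance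
    rw [Sylow.smul_eq_of_normal] at hgP
    subst hgP
    haveI : Nontrivial (P : Subgroup C) := ⟨⟨⟨⟨w, hwC⟩, hP (mem_zpowers _)⟩, 1, fun h =>
      hw1 (congrArg (fun a : (P : Subgroup C) => ((a : C) : H)) h)⟩⟩
    haveI := P.2.center_nontrivial
    obtain ⟨⟨t, ht⟩, ht1⟩ := exists_ne (1 : center (P : Subgroup C))
    have htc : ∀ a : C, a ∈ (P : Subgroup C) → ((a : H) * ((t : C) : H) = ((t : C) : H) * (a : H)) :=
      fun a ha => congrArg (fun b : (P : Subgroup C) => ((b : C) : H))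
        (mem_center_iff.1 ht ⟨a, ha⟩)
    have ht1' : ((t : C) : H) ≠ 1 := fun h => ht1 (Subtype.ext (Subtype.ext (Subtype.ext h)))
    have htL : ((t : C) : H) ∈ L := hg.cent_le hL hwL hw hw1
      (mem_centralizer_singleton_iff.2 (htc ⟨w, hwC⟩ (hP (mem_zpowers _))).symm)
    exact hg.cent_le hL htL ((pEl_of_mem P.2 t.2).map C.subtype) ht1'
      (mem_centralizer_singleton_iff.2 (htc ⟨x, hxC⟩ (hT (mem_zpowers _))))
  · exact hg.cent_le hL hwL hw hw1
      (mem_centralizer_singleton_iff.2 (hg.thin_commute hS hr hq.out hrq hxC hwC hxr hw))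

theorem Good.inter_le {M C L N : Subgroup H} (hC : Compl good M C) {q : ℕ} [hq : Fact q.Prime]
    {w : H} (hwC : w ∈ C) (hw : PEl q w) (hw1 : w ≠ 1) (hL : Fam good q L) (hwL : w ∈ L)
    (hfM : ¬ Fam good q M) (hN : IsCoatom N) (hne : M ≠ N) (hCN : C ≤ N) : M ⊓ N ≤ L := by
  have hS := hg.thin_inf hC.coatom hN hne
  intro x hx
  refine mem_of_parts fun r hr _ u hu hur => ?_
  have huS : u ∈ M ⊓ N := zpowers_le.2 hx hu
  by_cases hrq : r = q
  · subst hrq
    exact hg.compl_le hC hwC hw hw1 hL hwL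
      (hg.mem_compl hC (le_inf hC.le hCN) inf_le_left hS hr huS hur hfM)
  · exact hg.cent_le hL hwL hw hw1 (mem_centralizer_singleton_iff.2
      (hg.thin_commute hS hr hq.out hrq huS ⟨hC.le hwC, hCN hwC⟩ hur hw))

theorem Good.third {M L N : Subgroup H} (hMx : Mixed good M L) {r : ℕ} (hr : r.Prime) {y : H}
    (hy : y ∈ M ⊓ L) (hyr : PEl r y) (hy1 : y ≠ 1) (hN : Fam good r N) (hyN : y ∈ N)
    (hne : N ≠ M) : M ⊓ N = M ⊓ L ∧ Mixed good M N := by
  obtain ⟨hML, p, z, q, w, hp, hq, ⟨hfp, hz, hzp, hz1⟩, hfq, hw, hwq, hw1⟩ := hMx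
  haveI := Fact.mk hr
  haveI := Fact.mk hq
  haveI := Fact.mk hp
  have hqM := hg.not_fam_of_ne hq hw.1 hw.2 hwq hw1 hfq hML
  have hrM := hg.not_fam_of_ne hr hy.1 hyN hyr hy1 hN (Ne.symm hne)
  obtain ⟨C, hC, hwC⟩ := hg.exists_compl hfp.1 hw.1 hwq hqM
  have hCL := hg.compl_le hC hwC hwq hw1 hfq hw.2
  have hyC := hg.mem_compl hC (le_inf hC.le hCL) inf_le_left (hg.thin_inf hfp.1 hfq.1 hML) hr hy
    hyr hrM
  have hCN := hg.compl_le hC hyC hyr hy1 hN hyN
  have e : M ⊓ N = M ⊓ L := le_antisymm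
    (le_inf inf_le_left (hg.inter_le hC hwC hwq hw1 hfq hw.2 hqM hN.1 (Ne.symm hne) hCN))
    (le_inf inf_le_left (hg.inter_le hC hyC hyr hy1 hN hyN hrM hfq.1 hML hCL))
  exact ⟨e, Ne.symm hne, p, z, r, y, hp, hr, ⟨hfp, e.symm ▸ hz, hzp, hz1⟩,
    hN, e.symm ▸ hy, hyr, hy1⟩

omit [Finite H] hg in
theorem Mixed.symm {M L : Subgroup H} (h : Mixed good M L) : Mixed good L M := by
  obtain ⟨hne, p, z, q, w, hp, hq, h1, h2⟩ := h
  exact ⟨hne.symm, q, w, p, z, hq, hp, inf_comm M L ▸ h2, inf_comm M L ▸ h1⟩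

/-- There are no mixed pairs. -/
theorem Good.not_mixed (M L : Subgroup H) : ¬ Mixed good M L := by
  classical
  intro hMx
  obtain ⟨hML, p, z, q, w, hp, hq, ⟨hfp, hz, hzp, hz1⟩, hfq, hw, hwq, hw1⟩ := id hMx
  haveI := Fact.mk hq
  haveI := Fact.mk hp
  set D := M ⊓ L with hD
  have hJ : ∀ N, Attached good D N → N ≠ M → M ⊓ N = D ∧ Mixed good M N := by
    rintro N ⟨r, y, hr, hy, hyr, hy1, hN, hyN⟩ hne
    exact hg.third hMx hr hy hyr hy1 hN hyN hne
  have hcoat : ∀ N, Attached good D N → IsCoatom N := fun N ⟨_, _, _, _, _, _, hN, _⟩ => hN.1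
  have hMJ : Attached good D M := ⟨p, z, hp, hz, hzp, hz1, hfp, hz.1⟩
  have hLJ : Attached good D L := ⟨q, w, hq, hw, hwq, hw1, hfq, hw.2⟩
  have hpair : ∀ N N', Attached good D N → Attached good D N' → N ≠ N' → N ⊓ N' = D := by
    intro N N' hN hN' hne
    by_cases hNM : N = M
    · exact hNM ▸ (hJ N' hN' fun h => hne (hNM.trans h.symm)).1
    obtain ⟨e, hm⟩ := hJ N hN hNM
    obtain ⟨r, y, hr, hy, hyr, hy1, hf, hyN⟩ := hN'
    have e' : N ⊓ M = D := by rw [inf_comm, e]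
    exact (hg.third hm.symm hr (e'.symm ▸ hy) hyr hy1 hf hyN hne.symm).1.trans e'
  have hDle : ∀ N, Attached good D N → D ≤ N := fun N hN => by
    by_cases hNM : N = M
    · exact hNM ▸ inf_le_left
    · exact (hJ N hN hNM).1.ge.trans inf_le_right
  -- one attached subgroup for each prime
  have hsame : ∀ N N' r, r.Prime → Attached good D N → Attached good D N' → Fam good r N →
      Fam good r N' → N = N' := by
    rintro N N' r hr hN ⟨s, y, hs, hy, hys, hy1, hsN', hyN'⟩ hrN hrN'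
    haveI := Fact.mk hr
    haveI := Fact.mk hs
    exact hg.fam_eq (hg.fam_same hrN' hrN hsN') hsN' (hDle N hN hy) hyN' hys hy1
  have hindex : ∀ N, Attached good D N → 2 * N.index ≤ D.index ∧
      N.index * Nat.card (kk good N) = D.index * Nat.card ↥(D ⊓ kk good N) := by
    intro N hN
    have hne : ¬ N ≤ D := fun h => hML
      ((((hcoat N hN).le_iff_eq hfp.1.1).1 (h.trans inf_le_left)).trans
        (((hcoat N hN).le_iff_eq hfq.1.1).1 (h.trans inf_le_right)).symm)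
    constructor
    · rw [← relIndex_mul_index (hDle N hN)]
      refine Nat.mul_le_mul_right _ ?_
      have h0 : D.relIndex N ≠ 0 := index_ne_zero_of_finite
      have h1 : D.relIndex N ≠ 1 := fun h => hne (relIndex_eq_one.1 h)
      omega
    obtain ⟨C, hC, hCD⟩ : ∃ C, Compl good N C ∧ C ≤ D := by
      by_cases hNM : N = M
      · subst hNM
        obtain ⟨C, hC, hwC⟩ := hg.exists_compl hfp.1 hw.1 hwq
          (hg.not_fam_of_ne hq hw.1 hw.2 hwq hw1 hfq hML)
        exact ⟨C, hC, le_inf hC.le (hg.compl_le hC hwC hwq hw1 hfq hw.2)⟩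
      · have hzN : z ∈ N := hDle N hN hz
        obtain ⟨C, hC, hzC⟩ := hg.exists_compl (hcoat N hN) hzN hzp
          (hg.not_fam_of_ne hp hzN hz.1 hzp hz1 hfp hNM)
        exact ⟨C, hC, (hJ N hN hNM).1 ▸ le_inf (hg.compl_le hC hzC hzp hz1 hfp hz.1) hC.le⟩
    have hS : Thin good D := hg.thin_inf hfp.1 hfq.1 hML
    have hDK : D ≤ normalizer ((D ⊓ kk good N : Subgroup H) : Set H) := fun g hgD =>
      mem_normalizer_iff.2 fun x => by
        simp only [mem_inf]
        exact and_congr ((mem_normalizer_iff.1 (le_normalizer hgD)) x)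
          ((mem_normalizer_iff.1 (hg.le_normalizer_kk hC.coatom (hDle N hN hgD))) x)
    have hbot : C ⊓ (D ⊓ kk good N) = ⊥ := by
      refine (eq_bot_iff_forall _).2 fun x hx => by_contra fun hx1 => ?_
      obtain ⟨r, u, hr, hrd, -⟩ := exists_part hx1
      exact hC.prime r hr (hrd.trans (Subgroup.orderOf_dvd_natCard _ hx.1))
        (((hg.mem_kk hC.coatom).1 hx.2.2).2 r hr hrd)
    have hsup : C ⊔ (D ⊓ kk good N) = D := by
      refine le_antisymm (sup_le hCD inf_le_left) fun x hx => mem_of_parts fun r hr _ u hu hur => ?_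
      have huD : u ∈ D := zpowers_le.2 hx hu
      by_cases hfr : Fam good r N
      · exact mem_sup_right ⟨huD, (hg.mem_kk hC.coatom).2 (hg.pure_of_fam hr (hDle N hN huD) hur hfr)⟩
      · exact mem_sup_left (hg.mem_compl hC hCD (hDle N hN) hS hr huD hur hfr)
    have hcard := CfsgLib.Solvable.card_sup_of_disjoint (hCD.trans hDK) hbot
    rw [hsup] at hcard
    refine Nat.eq_of_mul_eq_mul_right (Nat.card_pos (α := C)) ?_
    rw [mul_assoc, mul_assoc, hC.card, mul_comm (Nat.card ↥(D ⊓ kk good N)), ← hcard,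
      index_mul_card, index_mul_card]
  -- the elements of `D` that are pure nowhere
  let Ds := {y : H // (y ∈ D ∧ y ≠ 1) ∧ ∀ N, Attached good D N → ¬ Pure good N y}
  let J := {N : Subgroup H // Attached good D N}
  haveI : Fintype J := Fintype.ofFinite J
  have hpart : ∀ (N : J) (x : H), x ∈ kk good N.1 → x ≠ 1 → ∃ r u, r.Prime ∧ Fam good r N.1 ∧
      r ∣ orderOf x ∧ u ∈ zpowers x ∧ u ∈ N.1 ∧ u ≠ 1 ∧ PEl r u := by
    intro N x hx hx1
    obtain ⟨r, u, hr, hrd, hu1, hu, hur⟩ := exists_part hx1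
    have hP := (hg.mem_kk (hcoat N.1 N.2)).1 hx
    exact ⟨r, u, hr, hP.2 r hr hrd, hrd, hu, zpowers_le.2 hP.1 hu, hu1, hur⟩
  have hDcount : (∑ N : J, Nat.card {x : H // x ∈ D ⊓ kk good N.1 ∧ x ≠ 1}) + Nat.card Ds + 1
      = Nat.card D := by
    rw [← Nat.card_sigma, ← Nat.card_sum, ← card_ne_one_add_one D]
    congr 1
    refine Nat.card_congr (Equiv.ofBijective (Sum.elim
      (fun s => ⟨s.2.1, (mem_inf.1 s.2.2.1).1, s.2.2.2⟩) (fun y => ⟨y.1, y.2.1⟩)) ⟨?_, ?_⟩)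
    · rintro (⟨N, x⟩ | y) (⟨N', x'⟩ | y') h <;> have h' := congrArg Subtype.val h <;>
        simp only [Sum.elim_inl, Sum.elim_inr] at h'
      · obtain ⟨r, u, hr, hf, hrd, -⟩ := hpart N x.1 (mem_inf.1 x.2.1).2 x.2.2
        have hNN : N = N' := Subtype.ext (hsame N.1 N'.1 r hr N.2 N'.2 hf
          (((hg.mem_kk (hcoat N'.1 N'.2)).1 (mem_inf.1 x'.2.1).2).2 r hr (h' ▸ hrd)))
        subst hNN
        rw [Subtype.ext h']
      · exact absurd ((hg.mem_kk (hcoat N.1 N.2)).1 (mem_inf.1 x.2.1).2) (h' ▸ y'.2.2 N.1 N.2)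
      · exact absurd ((hg.mem_kk (hcoat N'.1 N'.2)).1 (mem_inf.1 x'.2.1).2) (h' ▸ y.2.2 N'.1 N'.2)
      · rw [Subtype.ext h']
    · rintro ⟨y, hy, hy1⟩
      by_cases h : ∀ N, Attached good D N → ¬ Pure good N y
      · exact ⟨.inr ⟨y, ⟨hy, hy1⟩, h⟩, rfl⟩
      · push Not at h
        obtain ⟨N, hN, hP⟩ := h
        exact ⟨.inl ⟨⟨N, hN⟩, y, ⟨hy, (hg.mem_kk (hcoat N hN)).2 hP⟩, hy1⟩, rfl⟩
  -- their conjugates and those of the pure elements are all distinct
  have hHcount : (∑ N : J, N.1.index * Nat.card {x : H // x ∈ kk good N.1 ∧ x ≠ 1})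
      + D.index * Nat.card Ds + 1 ≤ Nat.card H := by
    rw [← card_top (G := H), ← card_ne_one_add_one (⊤ : Subgroup H)]
    refine Nat.add_le_add_right ?_ 1
    simp only [index_eq_card, ← Nat.card_prod]
    rw [← Nat.card_sigma, ← Nat.card_sum]
    let cl : ∀ {A : Subgroup H}, H ⧸ A → {x : H // x ≠ 1} → {x : H // x ∈ (⊤ : Subgroup H) ∧ x ≠ 1} :=
      fun c x => ⟨c.out * x.1 * c.out⁻¹, mem_top _, fun h => x.2 (by simpa using h)⟩
    refine Nat.card_le_card_of_injective (Sum.elim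
      (fun s => cl s.2.1 ⟨s.2.2.1, s.2.2.2.2⟩) (fun s => cl s.1 ⟨s.2.1, s.2.2.1.2⟩)) ?_
    have hkey : ∀ (N : J) (g x x' : H), x ∈ kk good N.1 → x ≠ 1 → g * x * g⁻¹ = x' →
        ∀ N' : J, x' ∈ N'.1 → (∀ r, r.Prime → r ∣ orderOf x → Fam good r N.1 → Fam good r N'.1) →
        N = N' ∧ g ∈ N.1 := by
      intro N g x x' hx hx1 he N' hx' hN'
      obtain ⟨r, u, hr, hf, hrd, hu, huN, hu1, hur⟩ := hpart N x hx hx1
      haveI := Fact.mk hr
      have hNN : N = N' := Subtype.ext (hsame _ _ r hr N.2 N'.2 hf (hN' r hr hrd hf))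
      subst hNN
      exact ⟨rfl, hg.mem_of_conj hf huN (zpowers_le.2 hx' (he ▸ conj_mem_zpowers hu)) hur hu1⟩
    have hmove : ∀ {A : Subgroup H} (c c' : H ⧸ A), c'.out⁻¹ * c.out ∈ A → c = c' := by
      intro A c c' h
      rw [← QuotientGroup.out_eq' c, ← QuotientGroup.out_eq' c']
      exact (QuotientGroup.eq.2 h).symm
    have hmixed : ∀ (N : J) (g x d : H), x ∈ kk good N.1 → x ≠ 1 → g * x * g⁻¹ = d →
        d ∈ D → (∀ N', Attached good D N' → ¬ Pure good N' d) → False := by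
      intro N g x d hx hx1 he hd hnP
      obtain ⟨-, hgN⟩ := hkey N g x d hx hx1 he N (hDle _ N.2 hd) (fun _ _ _ h => h)
      exact hnP N.1 N.2 ((hg.mem_kk (hcoat _ N.2)).1 (he ▸ hg.conj_mem_kk (hcoat _ N.2) hgN hx))
    rintro (⟨N, c, x⟩ | ⟨c, y⟩) (⟨N', c', x'⟩ | ⟨c', y'⟩) h <;>
      have h' := congrArg Subtype.val h <;>
      simp only [Sum.elim_inl, Sum.elim_inr, cl] at h'
    · have he : (c'.out⁻¹ * c.out) * x.1 * (c'.out⁻¹ * c.out)⁻¹ = x'.1 := by
        rw [show (c'.out⁻¹ * c.out) * x.1 * (c'.out⁻¹ * c.out)⁻¹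
          = c'.out⁻¹ * (c.out * x.1 * c.out⁻¹) * c'.out by group, h']
        group
      obtain ⟨rfl, hgN⟩ := hkey N _ x.1 x'.1 x.2.1 x.2.2 he N' (hg.kk_le x'.2.1) (fun r hr hrd _ => by
        refine ((hg.mem_kk (hcoat _ N'.2)).1 x'.2.1).2 r hr ?_
        rwa [← he, ← MulAut.conj_apply, MulEquiv.orderOf_eq])
      obtain rfl := hmove c c' hgN
      rw [inv_mul_cancel, one_mul, inv_one, mul_one] at he
      rw [Subtype.ext he]
    · have he : (c'.out⁻¹ * c.out) * x.1 * (c'.out⁻¹ * c.out)⁻¹ = y'.1 := by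
        rw [show (c'.out⁻¹ * c.out) * x.1 * (c'.out⁻¹ * c.out)⁻¹
          = c'.out⁻¹ * (c.out * x.1 * c.out⁻¹) * c'.out by group, h']
        group
      exact (hmixed N _ x.1 y'.1 x.2.1 x.2.2 he y'.2.1.1 y'.2.2).elim
    · have he : (c.out⁻¹ * c'.out) * x'.1 * (c.out⁻¹ * c'.out)⁻¹ = y.1 := by
        rw [show (c.out⁻¹ * c'.out) * x'.1 * (c.out⁻¹ * c'.out)⁻¹
          = c.out⁻¹ * (c'.out * x'.1 * c'.out⁻¹) * c.out by group, ← h']
        group
      exact (hmixed N' _ x'.1 y.1 x'.2.1 x'.2.2 he y.2.1.1 y.2.2).elim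
    · have he : (c'.out⁻¹ * c.out) * y.1 * (c'.out⁻¹ * c.out)⁻¹ = y'.1 := by
        rw [show (c'.out⁻¹ * c.out) * y.1 * (c'.out⁻¹ * c.out)⁻¹
          = c'.out⁻¹ * (c.out * y.1 * c.out⁻¹) * c'.out by group, h']
        group
      -- every prime of `y` places the conjugating element in its subgroup
      have hpr : ∀ r, r.Prime → r ∣ orderOf y.1 →
          ∃ N, Attached good D N ∧ Fam good r N ∧ c'.out⁻¹ * c.out ∈ N := by
        intro r hr hrd
        haveI := Fact.mk hr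
        obtain ⟨u, hu, hu1, -, hur⟩ := exists_part_dvd hr hrd
        obtain ⟨N, hN, huN⟩ := hg.exists_fam hur hu1
        have hNJ : Attached good D N := ⟨r, u, hr, zpowers_le.2 y.2.1.1 hu, hur, hu1, hN, huN⟩
        exact ⟨N, hNJ, hN, hg.mem_of_conj hN huN
          (hDle N hNJ (zpowers_le.2 y'.2.1.1 (he ▸ conj_mem_zpowers hu))) hur hu1⟩
      obtain ⟨r, -, hr, hrd, -⟩ := exists_part y.2.1.2
      obtain ⟨N, hN, -, hgN⟩ := hpr r hr hrd
      have hnP := y.2.2 N hN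
      rw [Pure, not_and] at hnP
      have h2 := hnP (hDle N hN y.2.1.1)
      push Not at h2
      obtain ⟨s, hs, hsd, hsN⟩ := h2
      obtain ⟨N', hN', hsN', hgN'⟩ := hpr s hs hsd
      have hgD : c'.out⁻¹ * c.out ∈ D :=
        (hpair N N' hN hN' (fun e => hsN (e ▸ hsN'))).le ⟨hgN, hgN'⟩
      obtain rfl := hmove c c' hgD
      rw [inv_mul_cancel, one_mul, inv_one, mul_one] at he
      rw [Subtype.ext he]
  -- the count
  have h1 : (∑ N : J, N.1.index * Nat.card {x : H // x ∈ kk good N.1 ∧ x ≠ 1}) + ∑ N : J, N.1.index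
      = D.index * ((∑ N : J, Nat.card {x : H // x ∈ D ⊓ kk good N.1 ∧ x ≠ 1}) + Fintype.card J) := by
    rw [← Finset.sum_add_distrib, Fintype.card_eq_sum_ones, ← Finset.sum_add_distrib, Finset.mul_sum]
    refine Finset.sum_congr rfl fun N _ => ?_
    rw [← Nat.mul_succ, Nat.succ_eq_add_one, card_ne_one_add_one, card_ne_one_add_one]
    exact (hindex N.1 N.2).2
  have h2 : 2 * ∑ N : J, N.1.index ≤ D.index * Fintype.card J := by
    rw [Finset.mul_sum, Fintype.card_eq_sum_ones, Finset.mul_sum]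
    exact Finset.sum_le_sum fun N _ => by rw [mul_one]; exact (hindex N.1 N.2).1
  have h3 : 2 ≤ Fintype.card J :=
    Fintype.one_lt_card_iff.2 ⟨⟨M, hMJ⟩, ⟨L, hLJ⟩, fun h => hML (congrArg Subtype.val h)⟩
  have h4 := congrArg (D.index * ·) hDcount
  simp only [mul_add, mul_one, index_mul_card] at h4
  nlinarith [Nat.mul_le_mul_left D.index h3]

/-! ### The conclusion -/

theorem Good.eq_one_of_commute {M : Subgroup H} {q : ℕ} [hq : Fact q.Prime] {w : H} (hwM : w ∈ M)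
    (hw : PEl q w) (hw1 : w ≠ 1) (hf : ¬ Fam good q M) (hM : IsCoatom M) {x : H}
    (hx : x ∈ kk good M) (hc : x * w = w * x) : x = 1 := by
  by_contra hx1
  obtain ⟨r, u, hr, hrd, hu1, hu, hur⟩ := exists_part hx1
  haveI := Fact.mk hr
  have hP := (hg.mem_kk hM).1 hx
  have huM : u ∈ M := zpowers_le.2 hP.1 hu
  obtain ⟨L, hL, hwL⟩ := hg.exists_fam hw hw1
  have huw : w * u = u * w := commute_of_mem_zpowers hu hc.symm
  refine hg.not_mixed M L ⟨fun e => hf (e ▸ hL), r, u, q, w, hr, hq.out,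
    ⟨hP.2 r hr hrd, ⟨huM, hg.cent_le hL hwL hw hw1 (mem_centralizer_singleton_iff.2 huw.symm)⟩,
      hur, hu1⟩, hL, ⟨hwM, hwL⟩, hw, hw1⟩

theorem Good.exists_bad {p : ℕ} [hp : Fact p.Prime] {M : Subgroup H} (hM : Fam good p M) :
    ∃ (q : ℕ) (w : H), q.Prime ∧ w ∈ M ∧ w ≠ 1 ∧ w ^ q = 1 ∧ ¬ Fam good q M := by
  by_contra hcon
  push Not at hcon
  have hfam : ∀ r : ℕ, r.Prime → ∀ x ∈ M, r ∣ orderOf x → Fam good r M := fun r hr x hx hd =>
    let ⟨w, hw, hw1, hwr, _⟩ := exists_part_dvd hr hd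
    hcon r w hr (zpowers_le.2 hx hw) hw1 hwr
  obtain ⟨K, hK, hinf, hsup, -⟩ := CfsgLib.Char.exists_frobenius_kernel M fun g hgM h hh hgh => by
    by_contra h1
    obtain ⟨r, u, hr, hrd, hu1, hu, hur⟩ := exists_part h1
    haveI := Fact.mk hr
    exact hgM (hg.mem_of_conj (hfam r hr h hh hrd) (zpowers_le.2 hh hu)
      (zpowers_le.2 hgh (conj_mem_zpowers hu)) hur hu1)
  haveI := hg.simple
  obtain ⟨hc, x, hx, hx1, -⟩ := hM
  rcases hK.eq_bot_or_eq_top with rfl | rfl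
  · exact hc.1 (by simpa using hsup)
  · exact hx1 (mem_bot.1 (hinf ▸ ⟨mem_top x, hx⟩))

theorem Good.nilpotent_kk {p : ℕ} [hp : Fact p.Prime] {M : Subgroup H} (hM : Fam good p M) :
    Group.IsNilpotent (kk good M) := by
  obtain ⟨q, w, hq, hwM, hw1, hwq, hf⟩ := hg.exists_bad hM
  haveI := Fact.mk hq
  haveI : ((kk good M).subgroupOf M).Normal :=
    (normal_subgroupOf_iff_le_normalizer hg.kk_le).2 (hg.le_normalizer_kk hM.1)
  set c : MulAut ((kk good M).subgroupOf M) := MulAut.conjNormal (⟨w, hwM⟩ : M) with hcd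
  have hc : c ^ q = 1 := by
    rw [hcd, ← map_pow, show (⟨w, hwM⟩ : M) ^ q = 1 from Subtype.ext hwq, map_one]
  have hfpf : ∀ x, c x = x → x = 1 := fun x hx => by
    have h1 : w * ((x : M) : H) * w⁻¹ = ((x : M) : H) := by
      have := congrArg (fun y : ↥((kk good M).subgroupOf M) => ((y : M) : H)) hx
      simpa [hcd, MulAut.conjNormal_apply] using this
    refine Subtype.ext (Subtype.ext ?_)
    exact hg.eq_one_of_commute hwM ⟨1, by rwa [pow_one]⟩ hw1 hf hM.1 (mem_subgroupOf.1 x.2)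
      (mul_inv_eq_iff_eq_mul.1 h1).symm
  exact (Group.isNilpotent_congr (subgroupOfEquivOfLe hg.kk_le)).1
    (CfsgLib.ThompsonNil.isNilpotent hq c hc hfpf)

theorem Good.isCNGroup : Cfsg.IsCNGroup H := by
  intro g hg1
  obtain ⟨r, u, hr, -, hu1, hu, hur⟩ := exists_part hg1
  haveI := Fact.mk hr
  obtain ⟨M, hM, huM⟩ := hg.exists_fam hur hu1
  refine nilpotent_of_le (fun x hx => ?_) (hg.nilpotent_kk hM)
  have hxu : x * u = u * x := commute_of_mem_zpowers hu (mem_centralizer_singleton_iff.1 hx)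
  have hxM : x ∈ M := hg.cent_le hM huM hur hu1 (mem_centralizer_singleton_iff.2 hxu)
  refine (hg.mem_kk hM.1).2 ⟨hxM, fun s hs hsd => by_contra fun hf => ?_⟩
  haveI := Fact.mk hs
  obtain ⟨v, hv, hv1, -, hvs⟩ := exists_part_dvd hs hsd
  exact hu1 (hg.eq_one_of_commute (zpowers_le.2 hxM hv) hvs hv1 hf hM.1
    ((hg.mem_kk hM.1).2 (hg.pure_of_fam hr huM hur hM)) (commute_of_mem_zpowers hv hxu.symm))

/-- A distinguished involution. -/
theorem Good.exists_involution : ∃ t : H, t ≠ 1 ∧ t ^ 2 = 1 ∧ good 2 t := by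
  haveI := Fact.mk Nat.prime_two
  have h2 : 2 ∣ Nat.card H := by
    by_contra h
    exact hg.nonsolvable (CfsgLib.Char.cn_odd_solvable
      (Nat.not_even_iff_odd.1 fun he => h he.two_dvd) hg.isCNGroup)
  obtain ⟨x, hx1, hgx⟩ := hg.exists_good h2
  obtain ⟨M, hM, hxM⟩ := hg.exists_fam (hg.pel 2 x hgx) hx1
  obtain ⟨q, w, hq, hwM, hw1, hwq, hf⟩ := hg.exists_bad hM
  haveI := Fact.mk hq
  haveI := hg.nilpotent_kk hM
  set K := kk good M with hKd
  have hxK : x ∈ K := (hg.mem_kk hM.1).2 (hg.pure_of_fam Nat.prime_two hxM (hg.pel 2 x hgx) hM)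
  let T : Subgroup H :=
    { carrier := {a | a ∈ K ∧ a ^ 2 = 1 ∧ ∀ b ∈ K, PEl 2 b → a * b = b * a}
      one_mem' := ⟨one_mem _, one_pow _, fun b _ _ => by simp⟩
      inv_mem' := fun {a} ⟨h1, h2, h3⟩ => ⟨inv_mem h1, by rw [inv_pow, h2, inv_one],
        fun b hb hb2 => ((show Commute a b from h3 b hb hb2).inv_left).eq⟩
      mul_mem' := fun {a b} ⟨h1, h2, h3⟩ ⟨k1, k2, k3⟩ => ⟨mul_mem h1 k1, by
          rw [(show Commute a b from h3 b k1 ⟨1, by rwa [pow_one]⟩).mul_pow, h2, k2, one_mul],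
        fun c hc hc2 =>
          ((show Commute a c from h3 c hc hc2).mul_left (show Commute b c from k3 c hc hc2)).eq⟩ }
  have hT : IsPGroup 2 T := fun a => ⟨1, Subtype.ext a.2.2.1⟩
  have hwn : w ∈ normalizer (T : Set H) := by
    have hle : ∀ g ∈ M, ∀ a ∈ T, g * a * g⁻¹ ∈ T := by
      rintro g hgM a ⟨h1, h2, h3⟩
      refine ⟨hg.conj_mem_kk hM.1 hgM h1, by rw [conj_pow, h2]; simp, fun b hb hb2 => ?_⟩
      have hc : Commute a (g⁻¹ * b * g) := h3 _ (by simpa using hg.conj_mem_kk hM.1 (inv_mem hgM) hb)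
        (by simpa using hb2.conj g⁻¹)
      simpa [mul_assoc] using (hc.map (MulAut.conj g).toMonoidHom).eq
    exact mem_normalizer_iff.2 fun a => ⟨hle w hwM a, fun ha => by
      simpa [mul_assoc] using hle w⁻¹ (inv_mem hwM) _ ha⟩
  -- `T` is nontrivial
  obtain ⟨P, hP⟩ :=
    ((hg.pel 2 x hgx).of_injective (x := (⟨x, hxK⟩ : K)) K.subtype_injective).isPGroup.exists_le_sylow
  haveI : Nontrivial (P : Subgroup K) := ⟨⟨⟨⟨x, hxK⟩, hP (mem_zpowers _)⟩, 1, fun h =>
    hx1 (congrArg (fun a : (P : Subgroup K) => ((a : K) : H)) h)⟩⟩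
  haveI := P.2.center_nontrivial
  obtain ⟨⟨a, ha⟩, ha1⟩ := exists_ne (1 : center (P : Subgroup K))
  have hao : (2 : ℕ) ∣ orderOf a := (pEl_of_mem (P.2.of_equiv Subgroup.topEquiv.symm) (mem_top a)
    |>.dvd Nat.prime_two fun h => ha1 (Subtype.ext h))
  obtain ⟨b, hb, hb1, hb2, -⟩ := exists_part_dvd Nat.prime_two hao
  have hbT : ((b : K) : H) ∈ T := by
    refine ⟨(b : K).2, congrArg (fun y : (P : Subgroup K) => ((y : K) : H)) hb2, fun c hc hc2 => ?_⟩
    obtain ⟨R, hR⟩ :=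
      (hc2.of_injective (x := (⟨c, hc⟩ : K)) K.subtype_injective).isPGroup.exists_le_sylow
    obtain ⟨g, hgP⟩ := MulAction.exists_smul_eq K P R
    haveI : (P : Subgroup K).Normal := inferInstance
    rw [Sylow.smul_eq_of_normal] at hgP
    subst hgP
    have hbc := mem_center_iff.1 (zpowers_le.2 ha hb) ⟨⟨c, hc⟩, hR (mem_zpowers _)⟩
    exact (congrArg (fun y : (P : Subgroup K) => ((y : K) : H)) hbc).symm
  have hb1' : ((b : K) : H) ≠ 1 := fun h => hb1 (Subtype.ext (Subtype.ext h))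
  obtain ⟨t, htT, ht1, hgt⟩ := hg.act 2 q Nat.prime_two hq
    (fun e => hf (e ▸ hM)) T hT w hwn ⟨1, by rwa [pow_one]⟩ _ hbT fun h => hb1'
      (hg.eq_one_of_commute hwM ⟨1, by rwa [pow_one]⟩ hw1 hf hM.1 hbT.1
        (commutatorElement_eq_one_iff_mul_comm.1 h))
  exact ⟨t, ht1, htT.2.1, hgt⟩

/-- No simple group has such a system. -/
theorem Good.false : False := by
  haveI := Fact.mk Nat.prime_two
  obtain ⟨t, ht1, ht2, hgt⟩ := hg.exists_involution
  have htt : t⁻¹ = t := inv_eq_of_mul_eq_one_right (by rw [← pow_two, ht2])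
  have htp : IsPGroup 2 (zpowers t) := PEl.isPGroup ⟨1, by rwa [pow_one]⟩
  by_cases hall : ∀ g : H, IsPGroup 2 ↥(zpowers t ⊔ (zpowers t).map (MulAut.conj g).toMonoidHom)
  · have h1 : t ∈ Cfsg.pCore 2 H :=
      CfsgLib.Invol.le_pCore_of_pairs (zpowers t) hall (mem_zpowers t)
    haveI := hg.simple
    rcases (CfsgLib.Solvable.pCore_spec (G := H) 2).1.eq_bot_or_eq_top with h | h
    · exact ht1 (mem_bot.1 (h ▸ h1))
    · exact hg.ne_top_of_isPGroup (CfsgLib.Solvable.isPGroup_pCore 2) h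
  push Not at hall
  obtain ⟨g, hgn⟩ := hall
  set s := g * t * g⁻¹ with hs
  have hss : s⁻¹ = s := by rw [hs]; simp [mul_assoc, htt]
  have hinv : t * (t * s) * t⁻¹ = (t * s)⁻¹ := by
    rw [mul_inv_rev, hss, ← mul_assoc, ← pow_two, ht2, one_mul]
  obtain ⟨r, hr, hrd, hr2⟩ : ∃ r, r.Prime ∧ r ∣ orderOf (t * s) ∧ r ≠ 2 := by
    by_contra hcon
    push Not at hcon
    have hy : PEl 2 (t * s) := by
      obtain ⟨k, hk⟩ : ∃ k, orderOf (t * s) = 2 ^ k :=
        ⟨_, Nat.eq_prime_pow_of_unique_prime_dvd (orderOf_pos _).ne' fun {d} hd hdd => hcon d hd hdd⟩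
      exact ⟨k, hk ▸ pow_orderOf_eq_one _⟩
    refine hgn ((htp.to_sup_of_normal_right' hy.isPGroup
      (zpowers_le.2 (mem_normalizer_zpowers hinv))).to_le (sup_le le_sup_left ?_))
    rw [MonoidHom.map_zpowers, zpowers_le]
    show s ∈ _
    have h3 := mul_mem (inv_mem (mem_sup_left (S := zpowers t) (T := zpowers (t * s)) (mem_zpowers t)))
      (mem_sup_right (mem_zpowers (t * s)))
    rwa [inv_mul_cancel_left] at h3
  haveI := Fact.mk hr
  obtain ⟨x, hx, hx1, -, hxr⟩ := exists_part_dvd hr hrd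
  have hinvx : t * x * t⁻¹ = x⁻¹ := by
    obtain ⟨i, rfl⟩ := mem_zpowers_iff.1 hx
    rw [← MulAut.conj_apply, map_zpow, MulAut.conj_apply, hinv, inv_zpow]
  have hne : zpowers x ≠ ⊥ := fun h => hx1 (zpowers_eq_bot.1 h)
  obtain ⟨M, hM, hle⟩ :=
    hg.exists_coatom (hg.normalizer_ne_top hne (hg.ne_top_of_isPGroup hxr.isPGroup))
  have htM : t ∈ M := hle (mem_normalizer_zpowers hinvx)
  have hxM : x ∈ M := hle (le_normalizer (mem_zpowers x))
  obtain ⟨t', ht', hte⟩ := hg.core M hM.1 2 Nat.prime_two t htM hgt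
  haveI : (Cfsg.pCore 2 M).Normal := (CfsgLib.Solvable.pCore_spec 2).1
  have hcm : ⁅t', (⟨x, hxM⟩ : M)⁆ ∈ Cfsg.pCore 2 M := by
    rw [show ⁅t', (⟨x, hxM⟩ : M)⁆ = t' * (⟨x, hxM⟩ * t'⁻¹ * (⟨x, hxM⟩ : M)⁻¹) by
      simp [commutatorElement_def, mul_assoc]]
    exact mul_mem ht' (‹(Cfsg.pCore 2 M).Normal›.conj_mem _ (inv_mem ht') _)
  have h2 : PEl 2 (x⁻¹ * x⁻¹) := by
    have := (pEl_of_mem (CfsgLib.Solvable.isPGroup_pCore 2) hcm).map M.subtype
    rw [map_commutatorElement, hte] at this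
    simpa [commutatorElement_def, hinvx] using this
  have hr' : PEl r (x⁻¹ * x⁻¹) :=
    pEl_of_mem hxr.isPGroup (mul_mem (inv_mem (mem_zpowers x)) (inv_mem (mem_zpowers x)))
  have hsq : x⁻¹ * x⁻¹ = 1 := by_contra fun h => hr2 (hr'.eq_prime hr Nat.prime_two h2 h)
  refine hx1 (orderOf_eq_one_iff.1 ?_)
  have hd : orderOf x ∣ 2 := orderOf_dvd_of_pow_eq_one (by
    rw [pow_two, ← inv_inv (x * x), mul_inv_rev, hsq, inv_one])
  rcases (Nat.dvd_prime Nat.prime_two).1 hd with h | h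
  · exact h
  · exact absurd (hxr.eq_of_dvd_orderOf hr Nat.prime_two (dvd_of_eq h.symm)) (Ne.symm hr2)

end CfsgLib.ValueSys
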