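import Cfsg.Agent.ValueSys.Nilp

/-!
The local structure of a simple group in which distinguished elements lie in the cores of all
proper subgroups.
-/

set_option autoImplicit false
set_option linter.style.haveILetI false
set_option linter.unusedSectionVars false

open Subgroup
open scoped commutatorElement

namespace CfsgLib.ValueSys

universe u

variable {H : Type u} [Group H]

/-- The distinguished elements. -/
structure Good (good : ℕ → H → Prop) : Prop where
  simple : IsSimpleGroup H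
  nonsolvable : ¬ Group.IsSolvable H
  pel : ∀ p x, good p x → PEl p x
  conj : ∀ p x g, good p x → good p (g * x * g⁻¹)
  core : ∀ M : Subgroup H, M ≠ ⊤ → ∀ p : ℕ, p.Prime → ∀ x ∈ M, good p x →
    x ∈ (Cfsg.pCore p M).map M.subtype
  comm : ∀ p : ℕ, p.Prime → ∀ P : Subgroup H, IsPGroup p P → ∀ x ∈ P, ∀ a ∈ P, good p x →
    good p ⁅x, a⁆
  act : ∀ p r : ℕ, p.Prime → r.Prime → r ≠ p → ∀ T : Subgroup H, IsPGroup p T →
    ∀ w ∈ normalizer (T : Set H), PEl r w → ∀ a ∈ T, ⁅a, w⁆ ≠ 1 → ∃ x ∈ T, x ≠ 1 ∧ good p x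

variable (good : ℕ → H → Prop)

/-- The subgroup generated by the distinguished `p`-elements of `M`. -/
def gset (p : ℕ) (M : Subgroup H) : Subgroup H := closure {x | x ∈ M ∧ good p x}

/-- A maximal subgroup containing a distinguished `p`-element. -/
def Fam (p : ℕ) (M : Subgroup H) : Prop := IsCoatom M ∧ ∃ x ∈ M, x ≠ 1 ∧ good p x

/-- All prime divisors of the order of `g` belong to `M`. -/
def Pure (M : Subgroup H) (g : H) : Prop :=
  g ∈ M ∧ ∀ r : ℕ, r.Prime → r ∣ orderOf g → Fam good r M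

/-- Two maximal subgroups meeting in elements of both kinds. -/
def Mixed (M L : Subgroup H) : Prop :=
  M ≠ L ∧ ∃ (p : ℕ) (z : H) (q : ℕ) (w : H), p.Prime ∧ q.Prime ∧
    (Fam good p M ∧ z ∈ M ⊓ L ∧ PEl p z ∧ z ≠ 1) ∧ (Fam good q L ∧ w ∈ M ⊓ L ∧ PEl q w ∧ w ≠ 1)

variable {good} (hg : Good good) [Finite H]
include hg

theorem Good.center_bot : center H = ⊥ := by
  haveI := hg.simple
  rcases (inferInstance : (center H).Normal).eq_bot_or_eq_top with h | h
  · exact h
  · exact absurd ((isSolvable_of_comm fun a b =>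
      (mem_center_iff.1 (h.symm ▸ mem_top b : b ∈ center H) a))) hg.nonsolvable

theorem Good.centralizer_ne_top {z : H} (hz : z ≠ 1) : centralizer ({z} : Set H) ≠ ⊤ := fun h =>
  hz (mem_bot.1 (hg.center_bot ▸ mem_center_iff.2 fun a =>
    mem_centralizer_singleton_iff.1 (h.symm ▸ mem_top a : a ∈ centralizer ({z} : Set H))))

theorem Good.normalizer_ne_top {W : Subgroup H} (h1 : W ≠ ⊥) (h2 : W ≠ ⊤) :
    normalizer (W : Set H) ≠ ⊤ := fun h => by
  haveI := hg.simple
  rcases (normalizer_eq_top_iff.1 h).eq_bot_or_eq_top with h' | h'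
  exacts [h1 h', h2 h']

theorem Good.not_isPGroup {p : ℕ} [Fact p.Prime] : ¬ IsPGroup p H := fun h =>
  hg.nonsolvable (by haveI := h.isNilpotent; infer_instance)

theorem Good.ne_top_of_isPGroup {p : ℕ} [Fact p.Prime] {W : Subgroup H} (h : IsPGroup p W) :
    W ≠ ⊤ := fun e => hg.not_isPGroup ((e ▸ h).of_equiv Subgroup.topEquiv)

theorem Good.exists_coatom {W : Subgroup H} (h : W ≠ ⊤) : ∃ M, IsCoatom M ∧ W ≤ M :=
  (eq_top_or_exists_le_coatom W).resolve_left h

theorem Good.gset_le {p : ℕ} (hp : p.Prime) {M : Subgroup H} (hM : M ≠ ⊤) :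
    gset good p M ≤ (Cfsg.pCore p M).map M.subtype :=
  (closure_le _).2 fun x hx => hg.core M hM p hp x hx.1 hx.2

theorem Good.gset_le_self {p : ℕ} (M : Subgroup H) : gset good p M ≤ M :=
  (closure_le _).2 fun _ hx => hx.1

theorem Good.gset_isPGroup {p : ℕ} [hp : Fact p.Prime] {M : Subgroup H} (hM : M ≠ ⊤) :
    IsPGroup p (gset good p M) :=
  ((CfsgLib.Solvable.isPGroup_pCore p).map M.subtype).to_le (hg.gset_le hp.out hM)

theorem Good.le_normalizer_gset {p : ℕ} (M : Subgroup H) :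
    M ≤ normalizer (gset good p M : Set H) := by
  have hle : ∀ g ∈ M, ∀ x ∈ gset good p M, g * x * g⁻¹ ∈ gset good p M := by
    intro g hgM x hx
    induction hx using closure_induction with
    | mem y hy =>
      exact subset_closure ⟨mul_mem (mul_mem hgM hy.1) (inv_mem hgM), hg.conj p y g hy.2⟩
    | one => simp
    | mul a b _ _ iha ihb => rw [← conj_mul]; exact mul_mem iha ihb
    | inv a _ iha => rw [← conj_inv]; exact inv_mem iha
  exact fun g hgM => mem_normalizer_iff.2 fun x => ⟨hle g hgM x, fun hx => by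
    simpa [mul_assoc] using hle g⁻¹ (inv_mem hgM) _ hx⟩

theorem Good.mem_gset {p : ℕ} {M : Subgroup H} {x : H} (hx : x ∈ M) (hgx : good p x) :
    x ∈ gset good p M := subset_closure ⟨hx, hgx⟩

theorem Good.fam_normalizer {p : ℕ} [hp : Fact p.Prime] {M : Subgroup H} (hM : Fam good p M) :
    normalizer (gset good p M : Set H) = M := by
  obtain ⟨hc, x, hx, hx1, hgx⟩ := hM
  have hne : gset good p M ≠ ⊥ := fun h => hx1 (mem_bot.1 (h ▸ hg.mem_gset hx hgx))
  have hnt := hg.normalizer_ne_top hne (hg.ne_top_of_isPGroup (hg.gset_isPGroup hc.1))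
  by_contra h
  exact hnt (hc.2 _ (lt_of_le_of_ne (hg.le_normalizer_gset M) (Ne.symm h)))

/-- A distinguished element outside a subgroup of the `p`-group they generate, normalizing it. -/
theorem Good.grow {p : ℕ} [hp : Fact p.Prime] {U : Subgroup H} (hU : IsPGroup p U)
    {W : Subgroup H} (hWU : W ≤ U) (hW : W = gset good p W) (hne : W ≠ gset good p U) :
    ∃ v, v ∈ U ∧ good p v ∧ v ∉ W ∧ v ∈ normalizer (W : Set H) := by
  have hlt : W < gset good p U := by
    refine lt_of_le_of_ne ?_ hne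
    rw [hW]
    exact closure_mono fun x hx => ⟨hWU hx.1, hx.2⟩
  set V := gset good p U
  have hVU : V ≤ U := hg.gset_le_self U
  obtain ⟨v₀, hv₀, hv₀W⟩ : ∃ v, (v ∈ U ∧ good p v) ∧ v ∉ W := by
    by_contra hcon
    push Not at hcon
    exact hlt.not_ge ((closure_le _).2 fun x hx => hcon x hx)
  haveI := (hU.to_le hVU).isNilpotent
  -- normalizers grow inside `V`
  have hstep : ∀ K : Subgroup H, K < V → ∃ g ∈ V, g ∈ normalizer (K : Set H) ∧ g ∉ K := by
    intro K hK
    have hlt' := Group.normalizerCondition_of_isNilpotent (G := V) (K.subgroupOf V)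
      (lt_top_iff_ne_top.2 fun h => hK.not_ge (subgroupOf_eq_top.1 h))
    obtain ⟨x, hxn, hxK⟩ := SetLike.exists_of_lt hlt'
    refine ⟨x, x.2, mem_normalizer_iff.2 fun a => ⟨fun ha => ?_, fun ha => ?_⟩, hxK⟩
    · exact (mem_normalizer_iff.1 hxn ⟨a, hK.le ha⟩).1 ha
    · have haV : a ∈ V := by
        simpa [mul_assoc] using mul_mem (mul_mem (inv_mem x.2) (hK.le ha)) x.2
      exact (mem_normalizer_iff.1 hxn ⟨a, haV⟩).2 ha
  set N₁ := V ⊓ normalizer (W : Set H)
  by_cases hN : N₁ = V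
  · exact ⟨v₀, hv₀.1, hv₀.2, hv₀W, (hN.ge (hg.mem_gset hv₀.1 hv₀.2) : v₀ ∈ N₁).2⟩
  obtain ⟨g, hgV, hgN, hgN₁⟩ := hstep N₁ (lt_of_le_of_ne inf_le_left hN)
  by_contra hcon
  push Not at hcon
  refine hgN₁ ⟨hgV, ?_⟩
  have hle : W.map (MulAut.conj g).toMonoidHom ≤ W := by
    conv_lhs => rw [hW, gset, MonoidHom.map_closure]
    rw [closure_le]
    rintro _ ⟨x, hx, rfl⟩
    have h1 : g * x * g⁻¹ ∈ N₁ :=
      (mem_normalizer_iff.1 hgN x).1 ⟨hlt.le hx.1, le_normalizer hx.1⟩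
    by_contra hxW
    exact hcon _ (hVU h1.1) (hg.conj p x g hx.2) hxW h1.2
  have e := eq_of_le_of_card_ge hle (card_map_of_injective (MulAut.conj _).injective).ge
  refine mem_normalizer_iff.2 fun y => ⟨fun hy => hle ⟨y, hy, rfl⟩, fun hy => ?_⟩
  rw [← e] at hy
  obtain ⟨z, hz, hze⟩ := hy
  rwa [← (MulAut.conj g).injective (show MulAut.conj g z = MulAut.conj g y from hze)]

/-- A distinguished element lies in only one maximal subgroup. -/
theorem Good.uniq {p : ℕ} [hp : Fact p.Prime] {M N : Subgroup H} (hM : IsCoatom M)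
    (hN : IsCoatom N) {x : H} (hxM : x ∈ M) (hxN : x ∈ N) (hx1 : x ≠ 1) (hgx : good p x) :
    M = N := by
  classical
  by_contra hne
  let P : ℕ → Prop := fun m => ∃ M N : Subgroup H, IsCoatom M ∧ IsCoatom N ∧ M ≠ N ∧
    (∃ x, x ∈ M ⊓ N ∧ x ≠ 1 ∧ good p x) ∧ Nat.card (gset good p (M ⊓ N)) = m
  have hP : P (Nat.card (gset good p (M ⊓ N))) :=
    ⟨M, N, hM, hN, hne, ⟨x, ⟨hxM, hxN⟩, hx1, hgx⟩, rfl⟩
  have hb : ∀ m, P m → m ≤ Nat.card H := by
    rintro m ⟨M, N, -, -, -, -, rfl⟩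
    exact Subgroup.card_le_card_group _
  set m := Nat.findGreatest P (Nat.card H) with hm
  have hPm : P m := Nat.findGreatest_spec (hb _ hP) hP
  have hmax : ∀ j, P j → j ≤ m := fun j hj => Nat.le_findGreatest (hb j hj) hj
  obtain ⟨M, N, hM, hN, hne, ⟨x, hx, hx1, hgx⟩, hcard⟩ := hPm
  set W := gset good p (M ⊓ N)
  have hWp : IsPGroup p W :=
    hg.gset_isPGroup fun h => hM.1 (top_le_iff.1 (h.ge.trans inf_le_left))
  have hW1 : W ≠ ⊥ := fun h => hx1 (mem_bot.1 (h ▸ hg.mem_gset hx hgx))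
  have hWW : W = gset good p W := le_antisymm
    ((closure_le _).2 fun y hy => hg.mem_gset (hg.mem_gset hy.1 hy.2) hy.2) (hg.gset_le_self W)
  obtain ⟨L, hL, hLle⟩ := hg.exists_coatom (hg.normalizer_ne_top hW1 (hg.ne_top_of_isPGroup hWp))
  have hMN : M ⊓ N ≤ L := (hg.le_normalizer_gset _).trans hLle
  have hWL : W ≤ L := le_normalizer.trans hLle
  have key : ∀ M' : Subgroup H, IsCoatom M' → W ≤ M' → x ∈ M' → W ≠ gset good p M' → L = M' := by
    intro M' hM' hW' hx' hne'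
    by_contra hLM
    have hWle : W ≤ gset good p M' :=
      hWW.le.trans (closure_mono fun y hy => ⟨hW' hy.1, hy.2⟩)
    obtain ⟨v, hvU, hgv, hvW, hvN⟩ := hg.grow (hg.gset_isPGroup (p := p) hM'.1) hWle hWW (by
      intro h
      exact hne' (h.trans (le_antisymm (closure_mono fun y hy => ⟨hg.gset_le_self _ hy.1, hy.2⟩)
        ((closure_le _).2 fun y hy => hg.mem_gset (hg.mem_gset hy.1 hy.2) hy.2))))
    have hlt : W < gset good p (L ⊓ M') := by
      refine lt_of_le_of_ne (hWW.le.trans (closure_mono fun y hy =>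
        ⟨⟨hWL hy.1, hW' hy.1⟩, hy.2⟩)) fun h => hvW ?_
      rw [h]
      exact hg.mem_gset ⟨hLle hvN, hg.gset_le_self _ hvU⟩ hgv
    have h1 : Nat.card W < Nat.card (gset good p (L ⊓ M')) :=
      Set.Finite.card_lt_card (Set.toFinite _) (SetLike.coe_ssubset_coe.2 hlt)
    have h2 := hmax _ ⟨L, M', hL, hM', hLM, ⟨x, ⟨hMN hx, hx'⟩, hx1, hgx⟩, rfl⟩
    omega
  have hnorm : ∀ M' : Subgroup H, IsCoatom M' → x ∈ M' → W = gset good p M' →
      normalizer (W : Set H) = M' := fun M' hM' hx' h =>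
    h ▸ hg.fam_normalizer ⟨hM', x, hx', hx1, hgx⟩
  have hWM : W ≤ M := (hg.gset_le_self _).trans inf_le_left
  have hWN : W ≤ N := (hg.gset_le_self _).trans inf_le_right
  -- both are strictly larger
  have hstrict : ∀ A B : Subgroup H, IsCoatom A → IsCoatom B → x ∈ A → x ∈ B → W ≤ A → W ≤ B →
      A ≠ B → (∀ y, y ∈ A → y ∈ B → good p y → y ∈ W) → W ≠ gset good p A := by
    intro A B hA hB hxA hxB hWA hWB hAB hint h
    by_cases hB' : W = gset good p B
    · exact hAB ((hnorm A hA hxA h).symm.trans (hnorm B hB hxB hB'))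
    · have := key B hB hWB hxB hB'
      subst this
      have hAL : A ≤ L := (hnorm A hA hxA h).ge.trans hLle
      exact hAB ((hA.le_iff_eq hB.1).1 hAL).symm
  have hsM := hstrict M N hM hN hx.1 hx.2 hWM hWN hne fun y h1 h2 hy => hg.mem_gset ⟨h1, h2⟩ hy
  have hsN := hstrict N M hN hM hx.2 hx.1 hWN hWM (Ne.symm hne)
    fun y h1 h2 hy => hg.mem_gset ⟨h2, h1⟩ hy
  exact hne ((key M hM hWM hx.1 hsM).symm.trans (key N hN hWN hx.2 hsN))

/-- Distinguished elements exist for every prime divisor of the order. -/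
theorem Good.exists_good {p : ℕ} [hp : Fact p.Prime] (hd : p ∣ Nat.card H) :
    ∃ x, x ≠ 1 ∧ good p x := by
  by_contra hcon
  push Not at hcon
  have hLC : CfsgLib.Fusion.LocalCondition p H := localCondition_of_parts fun Q hQ r hr hrp x hx hxr =>
    mem_centralizer_iff.2 fun a ha => commutatorElement_eq_one_iff_mul_comm.1 (by
      by_contra h1
      obtain ⟨y, -, hy1, hy⟩ := hg.act p r hp.out hr hrp Q hQ x hx hxr a ha h1
      exact hcon y hy1 hy)
  have hc := CfsgLib.PResidual.hasNormalPComplement_iff.1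
    (CfsgLib.Fusion.hasNormalPComplement_of_localCondition hLC)
  haveI := hg.simple
  rcases (inferInstance : (Cfsg.pResidual p H).Normal).eq_bot_or_eq_top with h | h
  · obtain ⟨k, hk⟩ := CfsgLib.PResidual.exists_index_pResidual (G := H) (p := p)
    rw [h, index_bot] at hk
    exact hg.not_isPGroup (IsPGroup.of_card hk)
  · rw [h, card_top] at hc
    exact hp.out.coprime_iff_not_dvd.1 hc.symm hd

/-- A Sylow subgroup has a central distinguished element. -/
theorem Good.exists_central {p : ℕ} [hp : Fact p.Prime] (hd : p ∣ Nat.card H) (P : Sylow p H) :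
    ∃ x ∈ (P : Subgroup H), x ≠ 1 ∧ good p x ∧ ∀ a ∈ (P : Subgroup H), x * a = a * x := by
  classical
  obtain ⟨x, hx1, hgx⟩ := hg.exists_good hd
  obtain ⟨T, hT⟩ := (hg.pel p x hgx).isPGroup.exists_le_sylow
  obtain ⟨g, hgT⟩ := MulAction.exists_smul_eq H T P
  have hxP : g * x * g⁻¹ ∈ (P : Subgroup H) := by
    rw [← hgT, Sylow.coe_subgroup_smul]
    exact ⟨x, hT (mem_zpowers x), rfl⟩
  haveI := P.2.isNilpotent
  obtain ⟨c, hc⟩ := Group.IsNilpotent.nilpotent' (G := (P : Subgroup H))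
  have hx' : g * x * g⁻¹ ≠ 1 := by simpa using hx1
  have hex : ∃ j, ∃ y : (P : Subgroup H),
      y ∈ Subgroup.upperCentralSeries (P : Subgroup H) j ∧ y ≠ 1 ∧ good p (y : H) :=
    ⟨c, ⟨_, hxP⟩, hc ▸ mem_top _, fun h => hx' (congrArg Subtype.val h), hg.conj p x g hgx⟩
  obtain ⟨y, hy, hy1, hgy⟩ := Nat.find_spec hex
  refine ⟨y, y.2, fun h => hy1 (Subtype.ext h), hgy, fun a ha => ?_⟩
  rcases hj : Nat.find hex with _ | j
  · rw [hj, Subgroup.upperCentralSeries_zero, mem_bot] at hy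
    exact absurd hy hy1
  · rw [hj, Subgroup.mem_upperCentralSeries_succ_iff] at hy
    have h1 := hy ⟨a, ha⟩
    refine commutatorElement_eq_one_iff_mul_comm.1 ?_
    by_contra hne
    refine Nat.find_min hex (m := j) (by omega) ⟨_, h1, fun h => hne ?_, ?_⟩
    · simpa [commutatorElement_def] using congrArg Subtype.val h
    · have := hg.comm p hp.out P P.2 _ y.2 a ha hgy
      simpa [commutatorElement_def] using this

/-- A maximal subgroup with a distinguished `p`-element contains a Sylow `p`-subgroup. -/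
theorem Good.sylow_le {p : ℕ} [hp : Fact p.Prime] {M : Subgroup H} (hM : Fam good p M) :
    ∃ P : Sylow p H, (P : Subgroup H) ≤ M := by
  let R : Sylow p M := default
  set RR := (R : Subgroup M).map M.subtype
  have hRp : IsPGroup p RR := R.2.map _
  have hSR : gset good p M ≤ RR := by
    refine (hg.gset_le hp.out hM.1.1).trans (map_mono ?_)
    haveI : (Cfsg.pCore p M).Normal := (CfsgLib.Solvable.pCore_spec p).1
    exact le_sup_left.trans (R.3 ((CfsgLib.Solvable.isPGroup_pCore p).to_sup_of_normal_left R.2)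
      le_sup_right).le
  obtain ⟨P, hP⟩ := hRp.exists_le_sylow
  refine ⟨P, ?_⟩
  rcases hP.eq_or_lt with h | h
  · exact h ▸ map_subtype_le _
  exfalso
  haveI := P.2.isNilpotent
  have hlt := Group.normalizerCondition_of_isNilpotent (G := (P : Subgroup H))
    (RR.subgroupOf (P : Subgroup H)) (lt_top_iff_ne_top.2 fun h' => h.not_ge (subgroupOf_eq_top.1 h'))
  obtain ⟨g, hgn, hgR⟩ := SetLike.exists_of_lt hlt
  have hconj : ∀ y ∈ RR, (g : H) * y * (g : H)⁻¹ ∈ RR := fun y hy =>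
    (mem_normalizer_iff.1 hgn ⟨y, hP hy⟩).1 hy
  have hgM : (g : H) ∈ M := by
    rw [← hg.fam_normalizer hM]
    have hle : (gset good p M).map (MulAut.conj (g : H)).toMonoidHom ≤ gset good p M := by
      rw [gset, MonoidHom.map_closure, closure_le]
      rintro _ ⟨y, hy, rfl⟩
      exact hg.mem_gset (map_subtype_le _ (hconj y (hSR (hg.mem_gset hy.1 hy.2))))
        (hg.conj p y g hy.2)
    have e := eq_of_le_of_card_ge hle (card_map_of_injective (MulAut.conj _).injective).ge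
    refine mem_normalizer_iff.2 fun y => ⟨fun hy => hle ⟨y, hy, rfl⟩, fun hy => ?_⟩
    rw [← e] at hy
    obtain ⟨z, hz, hze⟩ := hy
    rwa [← (MulAut.conj (g : H)).injective
      (show MulAut.conj (g : H) z = MulAut.conj (g : H) y from hze)]
  refine hgR (mem_subgroupOf.2 ?_)
  have hle : RR ⊔ zpowers (g : H) ≤ (P : Subgroup H) := sup_le hP (zpowers_le.2 g.2)
  have hleM : RR ⊔ zpowers (g : H) ≤ M := sup_le (map_subtype_le _) (zpowers_le.2 hgM)
  have hR := R.3 ((P.2.to_le hle).comap_subtype (K := M)) (fun y hy =>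
    mem_subgroupOf.2 (mem_sup_left ⟨y, hy, rfl⟩))
  exact ⟨⟨g, hgM⟩, hR.le (mem_subgroupOf.2 (mem_sup_right (mem_zpowers _))), rfl⟩

/-- In a maximal subgroup every `p`-element commutes with a distinguished one. -/
theorem Good.exists_commuting {p : ℕ} [hp : Fact p.Prime] {M : Subgroup H} (hM : Fam good p M)
    {z : H} (hzM : z ∈ M) (hzp : PEl p z) :
    ∃ x ∈ M, x ≠ 1 ∧ good p x ∧ x * z = z * x := by
  obtain ⟨P, hP⟩ := hg.sylow_le hM
  have hd : p ∣ Nat.card H := by
    obtain ⟨-, x, -, hx1, hgx⟩ := hM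
    exact ((hg.pel p x hgx).dvd hp.out hx1).trans (orderOf_dvd_natCard x)
  obtain ⟨x₀, hx₀, hx1, hgx, hxc⟩ := hg.exists_central hd P
  obtain ⟨m, hm, hmP⟩ := CfsgLib.Fusion.SylowIn.exists_conj_le
    (⟨hP, P.subtype hP, rfl⟩ : CfsgLib.Fusion.SylowIn p (P : Subgroup H) M) hzp.isPGroup
    (zpowers_le.2 hzM)
  refine ⟨m⁻¹ * x₀ * m, mul_mem (mul_mem (inv_mem hm) (hP hx₀)) hm,
    fun h => hx1 ?_, ?_, ?_⟩
  · have e : x₀ = m * (m⁻¹ * x₀ * m) * m⁻¹ := by group
    rw [e, h]; group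
  · simpa using hg.conj p x₀ m⁻¹ hgx
  · have h := hxc _ (hmP z (mem_zpowers z))
    calc m⁻¹ * x₀ * m * z = m⁻¹ * (x₀ * (m * z * m⁻¹)) * m := by group
      _ = m⁻¹ * ((m * z * m⁻¹) * x₀) * m := by rw [h]
      _ = z * (m⁻¹ * x₀ * m) := by group

theorem Good.cent_le {p : ℕ} [hp : Fact p.Prime] {M : Subgroup H} (hM : Fam good p M)
    {z : H} (hzM : z ∈ M) (hzp : PEl p z) (hz1 : z ≠ 1) : centralizer ({z} : Set H) ≤ M := by
  obtain ⟨x, hxM, hx1, hgx, hxz⟩ := hg.exists_commuting hM hzM hzp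
  obtain ⟨N, hN, hNle⟩ := hg.exists_coatom (hg.centralizer_ne_top hz1)
  rwa [hg.uniq hM.1 hN hxM (hNle (mem_centralizer_singleton_iff.2 hxz)) hx1 hgx]

theorem Good.fam_eq {p : ℕ} [hp : Fact p.Prime] {M N : Subgroup H} (hM : Fam good p M)
    (hN : Fam good p N) {z : H} (hzM : z ∈ M) (hzN : z ∈ N) (hzp : PEl p z) (hz1 : z ≠ 1) :
    M = N := by
  obtain ⟨x, hxM, hx1, hgx, hxz⟩ := hg.exists_commuting hM hzM hzp
  exact hg.uniq hM.1 hN.1 hxM
    (hg.cent_le hN hzN hzp hz1 (mem_centralizer_singleton_iff.2 hxz)) hx1 hgx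

theorem Good.exists_fam {p : ℕ} [hp : Fact p.Prime] {z : H} (hzp : PEl p z) (hz1 : z ≠ 1) :
    ∃ M, Fam good p M ∧ z ∈ M := by
  obtain ⟨P, hP⟩ := hzp.isPGroup.exists_le_sylow
  obtain ⟨x, -, hx1, hgx, hxc⟩ :=
    hg.exists_central ((hzp.dvd hp.out hz1).trans (orderOf_dvd_natCard z)) P
  obtain ⟨N, hN, hNle⟩ := hg.exists_coatom (hg.centralizer_ne_top hz1)
  exact ⟨N, ⟨hN, x, hNle (mem_centralizer_singleton_iff.2 (hxc z (hP (mem_zpowers z)))), hx1, hgx⟩,
    hNle (mem_centralizer_singleton_iff.2 rfl)⟩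

theorem Good.fam_conj {p : ℕ} {M : Subgroup H} (hM : Fam good p M) (g : H) :
    Fam good p (M.map (MulAut.conj g).toMonoidHom) := by
  obtain ⟨hc, x, hx, hx1, hgx⟩ := hM
  refine ⟨?_, g * x * g⁻¹, ⟨x, hx, rfl⟩, by simpa using hx1, hg.conj p x g hgx⟩
  exact (OrderIso.isCoatom_iff (MulEquiv.mapSubgroup (MulAut.conj g)) M).2 hc

theorem Good.fam_self_normalizing {p : ℕ} [hp : Fact p.Prime] {M : Subgroup H}
    (hM : Fam good p M) : normalizer (M : Set H) = M := by
  by_contra h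
  obtain ⟨hc, x, hx, hx1, -⟩ := hM
  exact hg.normalizer_ne_top (fun e => hx1 (mem_bot.1 (e ▸ hx))) hc.1
    (hc.2 _ (lt_of_le_of_ne le_normalizer (Ne.symm h)))

theorem Good.mem_of_conj {p : ℕ} [hp : Fact p.Prime] {M : Subgroup H} (hM : Fam good p M)
    {z g : H} (hzM : z ∈ M) (hgz : g * z * g⁻¹ ∈ M) (hzp : PEl p z) (hz1 : z ≠ 1) : g ∈ M := by
  have e : M.map (MulAut.conj g).toMonoidHom = M :=
    hg.fam_eq (hg.fam_conj hM g) hM ⟨z, hzM, rfl⟩ hgz (hzp.conj g) (by simpa using hz1)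
  rw [← hg.fam_self_normalizing hM]
  refine mem_normalizer_iff.2 fun y => ⟨fun hy => ?_, fun hy => ?_⟩
  · rw [← e]; exact ⟨y, hy, rfl⟩
  · rw [← e] at hy
    obtain ⟨v, hv, hve⟩ := hy
    rwa [← (MulAut.conj g).injective (show MulAut.conj g v = MulAut.conj g y from hve)]

/-- Maximal subgroups sharing one prime share all. -/
theorem Good.fam_same {p q : ℕ} [hp : Fact p.Prime] [hq : Fact q.Prime] {M N : Subgroup H}
    (hpM : Fam good p M) (hpN : Fam good p N) (hqM : Fam good q M) : Fam good q N := by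
  obtain ⟨P, hP⟩ := hg.sylow_le hpM
  obtain ⟨P', hP'⟩ := hg.sylow_le hpN
  obtain ⟨g, hgP⟩ := MulAction.exists_smul_eq H P P'
  obtain ⟨-, x, -, hx1, hgx⟩ := hpM
  have hd : p ∣ Nat.card H := ((hg.pel p x hgx).dvd hp.out hx1).trans (orderOf_dvd_natCard x)
  obtain ⟨x₀, hx₀, hx01, hgx₀, -⟩ := hg.exists_central hd P'
  have hx₀M : x₀ ∈ M.map (MulAut.conj g).toMonoidHom := by
    rw [← hgP, Sylow.coe_subgroup_smul] at hx₀
    obtain ⟨y, hy, hye⟩ := hx₀
    exact ⟨y, hP hy, hye⟩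
  have e := hg.uniq (hg.fam_conj hqM g).1 hpN.1 hx₀M (hP' hx₀) hx01 hgx₀
  exact e ▸ hg.fam_conj hqM g

/-- Outside its primes a maximal subgroup and its subgroups satisfy the local condition. -/
theorem Good.local_of_not_fam {q : ℕ} [hq : Fact q.Prime] {M S : Subgroup H} (hM : IsCoatom M)
    (hS : S ≤ M) (hnf : ¬ Fam good q M) : CfsgLib.Fusion.LocalCondition q S := by
  refine localCondition_of_parts fun Q hQ r hr hrq x hx hxr => mem_centralizer_iff.2 fun a ha => ?_
  refine commutatorElement_eq_one_iff_mul_comm.1 ?_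
  by_contra h1
  obtain ⟨y, hy, hy1, hgy⟩ := hg.act q r hq.out hr hrq (Q.map S.subtype) (hQ.map _) (x : H)
    (le_normalizer_map S.subtype (mem_map_of_mem S.subtype hx)) (hxr.map S.subtype) (a : H)
    ⟨a, ha, rfl⟩ (fun h => h1 (Subtype.ext (by simpa [commutatorElement_def] using h)))
  exact hnf ⟨hM, y, hS (map_subtype_le _ hy), hy1, hgy⟩

end CfsgLib.ValueSys
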