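import Cfsg.Agent.ValueSys.Basic

/-!
Nilpotency from the Frobenius condition at every prime.
-/

set_option autoImplicit false
set_option linter.style.haveILetI false
set_option linter.unusedSectionVars false

open Subgroup
open scoped commutatorElement

namespace CfsgLib.ValueSys

universe u

variable {G : Type u} [Group G] [Finite G]

theorem localCondition_of_parts {p : ℕ} [hp : Fact p.Prime]
    (h : ∀ Q : Subgroup G, IsPGroup p Q → ∀ r : ℕ, r.Prime → r ≠ p → ∀ x ∈ normalizer (Q : Set G),
      PEl r x → x ∈ centralizer (Q : Set G)) : CfsgLib.Fusion.LocalCondition p G := by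
  intro Q hQ g hg hc
  refine mem_of_parts fun r hr hrd x hx hxr => h Q hQ r hr ?_ x (zpowers_le.2 hg hx) hxr
  rintro rfl
  exact hr.coprime_iff_not_dvd.1 hc.symm hrd

/-- Coprime prime-power elements commute under the local conditions. -/
theorem commute_of_localConditions (h : ∀ r : ℕ, r.Prime → CfsgLib.Fusion.LocalCondition r G)
    {p q : ℕ} (hp : p.Prime) (hq : q.Prime) (hpq : p ≠ q) {x y : G} (hx : PEl p x) (hy : PEl q y) :
    x * y = y * x := by
  refine commutatorElement_eq_one_iff_mul_comm.1 ?_
  by_contra h1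
  obtain ⟨r, hr, hrd⟩ := Nat.exists_prime_and_dvd (fun e => h1 (orderOf_eq_one_iff.1 e))
  haveI := Fact.mk hr
  have hc := CfsgLib.PResidual.hasNormalPComplement_iff.1
    (CfsgLib.Fusion.hasNormalPComplement_of_localCondition (h r hr))
  have hxy : ⁅x, y⁆ ∈ Cfsg.pResidual r G := by
    rcases ne_or_eq p r with hne | rfl
    · have hxR : x ∈ Cfsg.pResidual r G := CfsgLib.PResidual.mem_pResidual r (by
        obtain ⟨a, ha⟩ := hx.exists_orderOf hp
        rw [ha]
        exact ((Nat.coprime_primes hp hr).2 hne).pow_left a)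
      rw [show ⁅x, y⁆ = x * (y * x⁻¹ * y⁻¹) by simp [commutatorElement_def, mul_assoc]]
      exact mul_mem hxR (Normal.conj_mem inferInstance _ (inv_mem hxR) y)
    · have hyR : y ∈ Cfsg.pResidual p G := CfsgLib.PResidual.mem_pResidual p (by
        obtain ⟨a, ha⟩ := hy.exists_orderOf hq
        rw [ha]
        exact ((Nat.coprime_primes hq hr).2 (Ne.symm hpq)).pow_left a)
      rw [commutatorElement_def]
      exact mul_mem (Normal.conj_mem inferInstance _ hyR x) (inv_mem hyR)
  exact hr.coprime_iff_not_dvd.1 (hc.coprime_dvd_left (Subgroup.orderOf_dvd_natCard _ hxy)).symm hrd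

theorem isNilpotent_of_localConditions (h : ∀ r : ℕ, r.Prime → CfsgLib.Fusion.LocalCondition r G) :
    Group.IsNilpotent G := by
  refine ((Group.isNilpotent_of_finite_tfae (G := G)).out 0 3).2 fun p hp P => ?_
  haveI : Fact p.Prime := hp
  refine normalizer_eq_top_iff.1 (eq_top_iff.2 ?_)
  rw [← CfsgLib.Solvable.iSup_sylow_eq_top (G := G) fun q : Nat.Primes =>
    if hqp : (q : ℕ) = p then hqp ▸ P else default]
  refine iSup_le fun q => ?_
  rcases q with ⟨q, hq⟩
  haveI := Fact.mk hq
  by_cases hqp : q = p
  · subst hqp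
    simp only [↓reduceDIte]
    exact le_normalizer
  · simp only [hqp, ↓reduceDIte]
    intro x hx
    refine centralizer_le_normalizer _ (mem_centralizer_iff.2 fun y hy => ?_)
    exact commute_of_localConditions h hp.out hq (Ne.symm hqp) (pEl_of_mem P.2 hy)
      (pEl_of_mem (Sylow.isPGroup' _) hx)

/-- Under the local conditions, a subgroup of index prime to `r` contains every `r`-element. -/
theorem mem_of_index (h : ∀ r : ℕ, r.Prime → CfsgLib.Fusion.LocalCondition r G) {r : ℕ}
    [hr : Fact r.Prime] {C : Subgroup G} (hC : ¬ r ∣ C.index) {x : G} (hx : PEl r x) : x ∈ C := by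
  haveI := isNilpotent_of_localConditions h
  let R : Sylow r C := default
  have hidx : ¬ r ∣ ((R : Subgroup C).map C.subtype).index := by
    rw [index_map_subtype]
    exact fun hd => (hr.out.dvd_mul.1 hd).elim R.not_dvd_index hC
  let R' : Sylow r G := (R.2.map C.subtype).toSylow hidx
  obtain ⟨T, hT⟩ := hx.isPGroup.exists_le_sylow
  obtain ⟨g, hg⟩ := MulAction.exists_smul_eq G T R'
  haveI : (T : Subgroup G).Normal := inferInstance
  have hTR : (R' : Subgroup G) = T := by
    rw [← hg, Sylow.coe_subgroup_smul]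
    exact Normal.conjAct ‹_› g
  exact map_subtype_le _ (show x ∈ (R' : Subgroup G) from hTR ▸ hT (mem_zpowers x))

end CfsgLib.ValueSys
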